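import Groth.Agent.Azumaya.Fibre

/-! Base change of semisimple algebras along field extensions. -/

set_option autoImplicit false

universe u v w

open TensorProduct

namespace Groth.Agent.Azumaya

variable (k : Type u) [Field k] (A : Type v) [Ring A] [Algebra k A]
variable (L : Type w) [Field L] [Algebra k L]

/-- The map from the base change of the centre. -/
noncomputable def centerMap : L ⊗[k] Subalgebra.center k A →ₐ[L] L ⊗[k] A :=
  Algebra.TensorProduct.map (AlgHom.id L L) (Subalgebra.center k A).val

theorem centerMap_tmul (l : L) (z : Subalgebra.center k A) :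
    centerMap k A L (l ⊗ₜ[k] z) = l ⊗ₜ[k] (z : A) := rfl

theorem centerMap_injective : Function.Injective (centerMap k A L) := by
  have h := Module.Flat.lTensor_preserves_injective_linearMap (M := L)
    (Subalgebra.center k A).val.toLinearMap Subtype.val_injective
  have e : ∀ x, centerMap k A L x = (Subalgebra.center k A).val.toLinearMap.lTensor L x := by
    intro x
    induction x using TensorProduct.induction_on with
    | zero => simp
    | tmul l z => rfl
    | add x y hx hy => rw [map_add, map_add, hx, hy]
  intro x y hxy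
  exact h (by rwa [e, e] at hxy)

theorem centerMap_commute (z : L ⊗[k] Subalgebra.center k A) (x : L ⊗[k] A) :
    centerMap k A L z * x = x * centerMap k A L z := by
  induction z using TensorProduct.induction_on with
  | zero => simp
  | tmul l c =>
    induction x using TensorProduct.induction_on with
    | zero => simp
    | tmul m a =>
      rw [centerMap_tmul, Algebra.TensorProduct.tmul_mul_tmul, Algebra.TensorProduct.tmul_mul_tmul,
        mul_comm l, Subalgebra.mem_center_iff.1 c.2 a]
    | add x y hx hy => rw [mul_add, add_mul, hx, hy]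
  | add z w hz hw => rw [map_add, mul_add, add_mul, hz, hw]

theorem comm_mem_range {x : A ⊗[k] L}
    (hx : x ∈ coeffs (B := L) (centerSub k A)) :
    Algebra.TensorProduct.comm k A L x ∈ Set.range (centerMap k A L) := by
  obtain ⟨z, rfl⟩ := hx
  induction z using TensorProduct.induction_on with
  | zero => exact ⟨0, by simp⟩
  | tmul c l => exact ⟨l ⊗ₜ[k] ⟨c.1, c.2⟩, by simp [centerMap_tmul]⟩
  | add z w hz hw =>
    obtain ⟨a, ha⟩ := hz
    obtain ⟨b, hb⟩ := hw
    exact ⟨a + b, by rw [map_add, map_add, map_add, ha, hb]⟩

variable [FiniteDimensional k A] [IsSemisimpleRing A]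

/-- Two-sided ideals of the base change are generated by their central elements. -/
theorem ideal_centerMap (I : TwoSidedIdeal (L ⊗[k] A)) {x : L ⊗[k] A} (hx : x ∈ I) :
    ∃ (n : ℕ) (p : Fin n → A) (y : Fin n → L ⊗[k] Subalgebra.center k A),
      (∀ i, centerMap k A L (y i) ∈ I) ∧
        x = ∑ i, ((1 : L) ⊗ₜ[k] p i) * centerMap k A L (y i) := by
  let τ := Algebra.TensorProduct.comm k A L
  have hx' : τ.symm x ∈ I.comap τ := by
    rw [TwoSidedIdeal.mem_comap]; simpa using hx
  obtain ⟨n, p, y, hy, hsum⟩ := (decomp_center k A).ideal _ hx'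
  choose z hz using fun i => comm_mem_range k A L (hy i).2
  refine ⟨n, p, z, fun i => ?_, ?_⟩
  · rw [hz]
    exact (TwoSidedIdeal.mem_comap _).1 (hy i).1
  · apply_fun τ at hsum
    rw [AlgEquiv.apply_symm_apply, map_sum] at hsum
    rw [hsum]
    refine Finset.sum_congr rfl fun i _ => ?_
    rw [map_mul, hz]
    simp [τ]

/-- The centre of the base change. -/
theorem mem_range_centerMap {x : L ⊗[k] A} (hx : ∀ a : A, ((1 : L) ⊗ₜ[k] a) * x = x * ((1 : L) ⊗ₜ[k] a)) :
    x ∈ Set.range (centerMap k A L) := by
  let τ := Algebra.TensorProduct.comm k A L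
  have h : τ.symm x ∈ coeffs (B := L) (centerSub k A) := by
    refine (decomp_center k A).commutant fun a => τ.injective ?_
    rw [map_mul, map_mul, AlgEquiv.apply_symm_apply]
    simpa [τ] using hx a
  simpa [τ] using comm_mem_range k A L h

omit [IsSemisimpleRing A] in
theorem isReduced_tensor_center [Algebra.IsSeparable k (Subalgebra.center k A)] :
    IsReduced (L ⊗[k] Subalgebra.center k A) := by
  let Z := Subalgebra.center k A
  have : Algebra.FormallyUnramified k Z := by
    rw [Algebra.formallyUnramified_iff]
    refine subsingleton_of_forall_eq 0 fun w => ?_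
    have hw : w ∈ Submodule.span Z (Set.range (KaehlerDifferential.D k Z)) := by
      rw [KaehlerDifferential.span_range_derivation]; trivial
    induction hw using Submodule.span_induction with
    | mem w hw =>
      obtain ⟨z, rfl⟩ := hw
      obtain ⟨a, b, hab⟩ := Algebra.IsSeparable.isSeparable k z
      have h1 : Polynomial.aeval z (Polynomial.derivative (minpoly k z)) •
          KaehlerDifferential.D k Z z = 0 := by
        rw [← Derivation.map_aeval, minpoly.aeval, map_zero]
      have h2 := congrArg (Polynomial.aeval z) hab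
      rw [map_add, map_mul, map_mul, minpoly.aeval, mul_zero, zero_add, map_one] at h2
      rw [← one_smul Z (KaehlerDifferential.D k Z z), ← h2, mul_smul, h1, smul_zero]
    | zero => rfl
    | add a b _ _ ha hb => rw [ha, hb, add_zero]
    | smul a b _ hb => rw [hb, smul_zero]
  exact Algebra.FormallyUnramified.isReduced_of_field L (L ⊗[k] Z)

theorem isSemisimpleRing_baseChange [Algebra.IsSeparable k (Subalgebra.center k A)] :
    IsSemisimpleRing (L ⊗[k] A) := by
  have : IsArtinianRing (L ⊗[k] A) := IsArtinianRing.of_finite L _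
  have := isReduced_tensor_center k A L
  rw [IsArtinianRing.isSemisimpleRing_iff_jacobson, eq_bot_iff]
  intro x hx
  have hx0 : x ∈ (Ring.jacobson (L ⊗[k] A)).toTwoSided := by
    rwa [Ideal.mem_toTwoSided]
  obtain ⟨n, p, y, hy, rfl⟩ := ideal_centerMap k A L _ hx0
  obtain ⟨N, hN⟩ := IsArtinianRing.isNilpotent_jacobson_bot (R := L ⊗[k] A)
  rw [Ideal.jacobson_bot] at hN
  rw [Ideal.mem_bot]
  refine Finset.sum_eq_zero fun i _ => ?_
  have h1 : centerMap k A L (y i) ^ N = 0 := by
    have := Ideal.pow_mem_pow (Ideal.mem_toTwoSided.1 (hy i)) N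
    rw [hN] at this
    simpa using this
  have h2 : y i = 0 := by
    refine IsNilpotent.eq_zero ⟨N, centerMap_injective k A L ?_⟩
    rw [map_pow, map_zero, h1]
  rw [h2, map_zero, mul_zero]

end Groth.Agent.Azumaya
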