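import Groth.Agent.Azumaya.Semisimple

/-! Central simple algebras over a field. -/

set_option autoImplicit false

universe u v w

open TensorProduct MulOpposite

namespace Groth.Agent.Azumaya

variable (k : Type u) [Field k] (A : Type v) [Ring A] [Algebra k A] [Algebra.IsCentral k A]
  [IsSimpleRing A] [FiniteDimensional k A]

theorem centerSub_eq_scalars : centerSub k A = scalars k A := by
  ext x
  simp only [centerSub, Algebra.IsCentral.center_eq_bot, Subalgebra.mem_toSubmodule, Algebra.mem_bot]
  rfl

theorem exists_functional : ∃ f : A →ₗ[k] k, f 1 = 1 := by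
  obtain ⟨f, hf⟩ := (LinearMap.toSpanSingleton k A (1 : A)).exists_leftInverse_of_injective
    (LinearMap.ker_eq_bot.2 (smul_left_injective k one_ne_zero))
  exact ⟨f, by simpa using LinearMap.congr_fun hf 1⟩

theorem decomp_csa : Decomp k A (scalars k A) := by
  have := IsArtinianRing.of_finite k A
  rw [← centerSub_eq_scalars k A]
  exact decomp_center k A

theorem mulLeftRight_bijective : Function.Bijective (AlgHom.mulLeftRight k A) := by
  have := IsArtinianRing.of_finite k A
  have hs : Function.Surjective (AlgHom.mulLeftRight k A).toLinearMap := fun φ => by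
    obtain ⟨t, ht⟩ := mulLeftRight_mem k φ (fun c hc x => by
      obtain ⟨r, rfl⟩ := (Algebra.IsCentral.mem_center_iff (K := k)).1 hc
      rw [← Algebra.smul_def, ← Algebra.smul_def, map_smul])
    exact ⟨t, ht⟩
  refine ⟨?_, hs⟩
  have hd : Module.finrank k (A ⊗[k] Aᵐᵒᵖ) = Module.finrank k (Module.End k A) := by
    rw [Module.finrank_tensorProduct, Module.finrank_linearMap,
      ← (MulOpposite.opLinearEquiv k : A ≃ₗ[k] Aᵐᵒᵖ).finrank_eq]
  exact (LinearMap.injective_iff_surjective_of_finrank_eq_finrank hd).2 hs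

theorem isSimpleRing_tensor (B : Type w) [Ring B] [Algebra k B] [IsSimpleRing B] :
    IsSimpleRing (A ⊗[k] B) :=
  (decomp_csa k A).isSimpleRing (exists_functional k A).choose_spec

theorem isCentral_tensor (B : Type w) [Ring B] [Algebra k B] [Algebra.IsCentral k B] :
    Algebra.IsCentral k (A ⊗[k] B) :=
  (decomp_csa k A).isCentral (exists_functional k A).choose_spec

/-- Modules of the same dimension over a simple algebra are isomorphic. -/
theorem nonempty_linearEquiv_of_finrank_eq (T : Type w) [Ring T] [Algebra k T] [IsSimpleRing T]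
    [IsArtinianRing T] (M N : Type v) [AddCommGroup M] [AddCommGroup N] [Module k M] [Module k N]
    [Module T M] [Module T N] [IsScalarTower k T M] [IsScalarTower k T N] [FiniteDimensional k M]
    [FiniteDimensional k N] (h : Module.finrank k M = Module.finrank k N) :
    Nonempty (M ≃ₗ[T] N) := by
  have : Module.Finite T M := Module.Finite.of_restrictScalars_finite k T M
  have : Module.Finite T N := Module.Finite.of_restrictScalars_finite k T N
  rcases subsingleton_or_nontrivial M with hM | hM
  · have : Subsingleton N := Module.finrank_zero_iff.1 (h ▸ Module.finrank_zero_of_subsingleton)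
    exact ⟨LinearEquiv.ofBijective (0 : M →ₗ[T] N)
      ⟨fun _ _ _ => Subsingleton.elim _ _, fun y => ⟨0, Subsingleton.elim _ _⟩⟩⟩
  have hN : Nontrivial N := Module.finrank_pos_iff.1 (h ▸ Module.finrank_pos)
  obtain ⟨m, hm0, S, hS, ⟨e⟩⟩ := (IsSimpleRing.isIsotypic T M).linearEquiv_fun
  obtain ⟨n, hn0, S', hS', ⟨e'⟩⟩ := (IsSimpleRing.isIsotypic T N).linearEquiv_fun
  let i : S →ₗ[T] M × N := (LinearMap.inl T M N).comp S.subtype
  let i' : S' →ₗ[T] M × N := (LinearMap.inr T M N).comp S'.subtype
  have hi : Function.Injective i := LinearMap.inl_injective.comp S.subtype_injective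
  have hi' : Function.Injective i' := LinearMap.inr_injective.comp S'.subtype_injective
  have : IsSimpleModule T (LinearMap.range i) :=
    IsSimpleModule.congr (LinearEquiv.ofInjective i hi).symm
  have : IsSimpleModule T (LinearMap.range i') :=
    IsSimpleModule.congr (LinearEquiv.ofInjective i' hi').symm
  obtain ⟨j⟩ := IsSimpleRing.isIsotypic T (M × N) (LinearMap.range i) (LinearMap.range i')
  let s : S' ≃ₗ[T] S :=
    (LinearEquiv.ofInjective i' hi').trans (j.trans (LinearEquiv.ofInjective i hi).symm)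
  have : Nontrivial S := IsSimpleModule.nontrivial T S
  have : Module.Finite k S := Module.Finite.of_injective (S.subtype.restrictScalars k)
    S.subtype_injective
  have : Module.Finite k S' := Module.Finite.of_injective (S'.subtype.restrictScalars k)
    S'.subtype_injective
  have hmn : m = n := by
    have h1 := (e.restrictScalars k).finrank_eq
    have h2 := (e'.restrictScalars k).finrank_eq
    rw [Module.finrank_pi_fintype] at h1 h2
    rw [← h, h1, Finset.sum_const, Finset.sum_const, Finset.card_univ, Finset.card_univ,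
      Fintype.card_fin, Fintype.card_fin, smul_eq_mul, smul_eq_mul,
      (s.restrictScalars k).finrank_eq] at h2
    exact Nat.eq_of_mul_eq_mul_right Module.finrank_pos h2
  subst hmn
  exact ⟨e.trans ((LinearEquiv.piCongrRight fun _ => s.symm).trans e'.symm)⟩

/-- `A` with a twisted left action. -/
def Tw {B : Type w} [Ring B] [Algebra k B] (_ : B →ₐ[k] A) : Type v := A

namespace Tw

variable {k A} {B : Type w} [Ring B] [Algebra k B] (f : B →ₐ[k] A)

instance : AddCommGroup (Tw k A f) := inferInstanceAs (AddCommGroup A)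
instance : Module k (Tw k A f) := inferInstanceAs (Module k A)
instance : FiniteDimensional k (Tw k A f) := inferInstanceAs (FiniteDimensional k A)

/-- The action map. -/
noncomputable def action : Aᵐᵒᵖ ⊗[k] B →ₐ[k] Module.End k A :=
  Algebra.TensorProduct.lift ((AlgHom.mulLeftRight k A).comp Algebra.TensorProduct.includeRight)
    (((AlgHom.mulLeftRight k A).comp Algebra.TensorProduct.includeLeft).comp f)
    fun x y => LinearMap.ext fun z => by simp [mul_assoc]

noncomputable instance : Module (Aᵐᵒᵖ ⊗[k] B) (Tw k A f) :=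
  Module.compHom A (action f).toRingHom

theorem smul_tmul_def (a : Aᵐᵒᵖ) (b : B) (x : Tw k A f) :
    (a ⊗ₜ[k] b) • x = (show Tw k A f from f b * (show A from x) * a.unop) := by
  show action f (a ⊗ₜ[k] b) x = _
  simp [action]

instance isScalarTower :
    @IsScalarTower k (Aᵐᵒᵖ ⊗[k] B) (Tw k A f) Algebra.toSMul _ _ :=
  @IsScalarTower.mk k (Aᵐᵒᵖ ⊗[k] B) (Tw k A f) Algebra.toSMul _ _
  fun r t x => by
    show action f (r • t) x = r • action f t x
    rw [map_smul]
    rfl

end Tw

/-- Skolem–Noether. -/
theorem skolemNoether (B : Type w) [Ring B] [Algebra k B] [IsSimpleRing B] [FiniteDimensional k B]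
    (f g : B →ₐ[k] A) : ∃ a : Aˣ, ∀ b, g b = (a : A) * f b * (a⁻¹ : Aˣ) := by
  have : IsSimpleRing (Aᵐᵒᵖ ⊗[k] B) := isSimpleRing_tensor k Aᵐᵒᵖ B
  have : IsArtinianRing (Aᵐᵒᵖ ⊗[k] B) := IsArtinianRing.of_finite k _
  obtain ⟨φ⟩ := nonempty_linearEquiv_of_finrank_eq k (Aᵐᵒᵖ ⊗[k] B) (Tw k A f) (Tw k A g)
    (show Module.finrank k (Tw k A f) = Module.finrank k (Tw k A g) from rfl)
  let F : A → A := φ
  let G : A → A := φ.symm
  have hF : ∀ (a : A) (b : B) (x : A), F (f b * x * a) = g b * F x * a := fun a b x => by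
    have h := φ.map_smul (op a ⊗ₜ[k] b) x
    rw [Tw.smul_tmul_def, Tw.smul_tmul_def] at h
    exact h
  have hG : ∀ (a : A) (x : A), G (x * a) = G x * a := fun a x => by
    have h := φ.symm.map_smul (op a ⊗ₜ[k] (1 : B)) x
    rw [Tw.smul_tmul_def, Tw.smul_tmul_def, map_one, map_one, one_mul, one_mul] at h
    exact h
  have hl : ∀ x, F x = F 1 * x := fun x => by simpa using hF x 1 1
  have hlG : ∀ x, G x = G 1 * x := fun x => by simpa using hG x 1
  have h1 : F 1 * G 1 = 1 := by rw [← hl]; exact φ.apply_symm_apply (1 : A)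
  have h2 : G 1 * F 1 = 1 := by rw [← hlG]; exact φ.symm_apply_apply (1 : A)
  refine ⟨⟨F 1, G 1, h1, h2⟩, fun b => ?_⟩
  have h3 : F (f b) = g b * F 1 := by simpa using hF 1 b 1
  show g b = F 1 * f b * G 1
  rw [← hl, h3, mul_assoc, h1, mul_one]

theorem inner_of_algEquiv (u : A ≃ₐ[k] A) :
    ∃ a : Aˣ, ∀ x, u x = (a : A) * x * (a⁻¹ : Aˣ) :=
  skolemNoether k A A (AlgHom.id k A) u.toAlgHom

theorem matrix_of_isSepClosed [IsSepClosed k] :
    ∃ (n : ℕ) (_ : NeZero n), Nonempty (A ≃ₐ[k] Matrix (Fin n) (Fin n) k) := by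
  have := IsArtinianRing.of_finite k A
  obtain ⟨n, hn, D, _, _, _, ⟨e⟩⟩ := IsSimpleRing.exists_algEquiv_matrix_divisionRing_finite k A
  have : Algebra.IsCentral k (Matrix (Fin n) (Fin n) D) := Algebra.IsCentral.of_algEquiv k A _ e
  have hD : Algebra.IsCentral k D := by
    refine ⟨fun d hd => ?_⟩
    have hm : Matrix.scalar (Fin n) d ∈ Subalgebra.center k (Matrix (Fin n) (Fin n) D) :=
      Subalgebra.mem_center_iff.2 fun M => (Matrix.scalar_commute d
        (fun r => (Subalgebra.mem_center_iff.1 hd r).symm) M).eq.symm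
    obtain ⟨r, hr⟩ := Algebra.mem_bot.1 (Algebra.IsCentral.out hm)
    refine Algebra.mem_bot.2 ⟨r, ?_⟩
    have := congrFun (congrFun hr 0) 0
    simpa [Matrix.algebraMap_matrix_apply, Matrix.scalar] using this
  have htop : (⊥ : Subalgebra k D) = ⊤ := by
    by_contra hne
    obtain ⟨x, hx, hsep⟩ := JacobsonNoether.exists_separable_and_not_isCentral' hne
    apply hx
    obtain ⟨r, hr⟩ := IsSepClosed.exists_root (minpoly k x)
      (minpoly.degree_pos hsep.isIntegral).ne' hsep
    have := minpoly.root hsep.isIntegral hr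
    exact Algebra.mem_bot.2 ⟨r, this⟩
  exact ⟨n, hn, ⟨e.trans (AlgEquiv.mapMatrix (((Subalgebra.equivOfEq _ _ htop).trans
    Subalgebra.topEquiv).symm.trans (Algebra.botEquiv k D)))⟩⟩

omit [Algebra.IsCentral k A] [IsSimpleRing A] [FiniteDimensional k A] in
theorem exists_scalar_image {n : ℕ} [NeZero n] {X : Type v} {Y : Type w} [Ring X] [Ring Y]
    [Algebra k X] [Algebra k Y] (φ : Matrix (Fin n) (Fin n) X ≃ₐ[k] Matrix (Fin n) (Fin n) Y)
    (hφ : ∀ M : Matrix (Fin n) (Fin n) k,
      φ ((Algebra.ofId k X).mapMatrix M) = (Algebra.ofId k Y).mapMatrix M) (x : X) :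
    ∃ y : Y, φ (Matrix.scalar (Fin n) x) = Matrix.scalar (Fin n) y := by
  have hcomm : ∀ i j : Fin n, i ≠ j →
      Commute (Matrix.single i j (1 : Y)) (φ (Matrix.scalar (Fin n) x)) := by
    intro i j _
    have hX : (Algebra.ofId k X).mapMatrix (Matrix.single i j (1 : k)) = Matrix.single i j (1 : X) := by
      simp [AlgHom.mapMatrix_apply, Matrix.map_single]
    have hY : (Algebra.ofId k Y).mapMatrix (Matrix.single i j (1 : k)) = Matrix.single i j (1 : Y) := by
      simp [AlgHom.mapMatrix_apply, Matrix.map_single]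
    rw [← hY, ← hφ]
    refine Commute.map ?_ φ
    rw [hX]
    show _ * _ = _ * _
    ext p q
    simp [Matrix.scalar, Matrix.single, Matrix.mul_apply, Matrix.diagonal, ite_and]
    by_cases h1 : i = p
    · subst h1; simp
    · simp [h1, Ne.symm h1]
  exact (Matrix.mem_range_scalar_of_commute_single hcomm).imp fun y hy => hy.symm

/-- Cancellation of matrix algebras. -/
theorem cancel_matrix (A' : Type w) [Ring A'] [Algebra k A'] [Algebra.IsCentral k A']
    [IsSimpleRing A'] [FiniteDimensional k A'] (n : ℕ) (hn : n ≠ 0)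
    (e : Matrix (Fin n) (Fin n) A ≃ₐ[k] Matrix (Fin n) (Fin n) A') :
    Nonempty (A ≃ₐ[k] A') := by
  have : NeZero n := ⟨hn⟩
  let ι : Matrix (Fin n) (Fin n) k →ₐ[k] Matrix (Fin n) (Fin n) A := (Algebra.ofId k A).mapMatrix
  let ι' : Matrix (Fin n) (Fin n) k →ₐ[k] Matrix (Fin n) (Fin n) A' := (Algebra.ofId k A').mapMatrix
  obtain ⟨a, ha⟩ := skolemNoether k (Matrix (Fin n) (Fin n) A') (Matrix (Fin n) (Fin n) k)
    (e.toAlgHom.comp ι) ι'
  let c : Matrix (Fin n) (Fin n) A ≃ₐ[k] Matrix (Fin n) (Fin n) A' :=
    e.trans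
      { toFun := fun x => (a : Matrix (Fin n) (Fin n) A') * x * (a⁻¹ : (Matrix (Fin n) (Fin n) A')ˣ)
        invFun := fun x => (a⁻¹ : (Matrix (Fin n) (Fin n) A')ˣ) * x * (a : Matrix (Fin n) (Fin n) A')
        left_inv := fun x => by simp [mul_assoc]
        right_inv := fun x => by simp [mul_assoc]
        map_mul' := fun x y => by simp [mul_assoc]
        map_add' := fun x y => by simp [mul_add, add_mul]
        commutes' := fun r => by simp [← Algebra.commutes r] }
  have hc : ∀ M, c (ι M) = ι' M := fun M => (ha M).symm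
  choose F hF using exists_scalar_image k c hc
  choose G hG using exists_scalar_image k c.symm (fun M => by
    apply c.injective
    rw [AlgEquiv.apply_symm_apply]
    exact (hc M).symm)
  have hsc : ∀ {X : Type w}, [Ring X] → Function.Injective (Matrix.scalar (Fin n) : X → _) :=
    fun {X} _ => (fun x y h => by simpa [Matrix.scalar] using congrFun (congrFun h 0) 0)
  have hscA : Function.Injective (Matrix.scalar (Fin n) : A → _) := (fun x y h => by simpa [Matrix.scalar] using congrFun (congrFun h 0) 0)
  refine ⟨AlgEquiv.ofLinearEquiv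
    { toFun := F
      invFun := G
      left_inv := fun x => hscA (by rw [← hG, ← hF, AlgEquiv.symm_apply_apply])
      right_inv := fun y => hsc (by rw [← hF, ← hG, AlgEquiv.apply_symm_apply])
      map_add' := fun x y => hsc (by rw [← hF, map_add, map_add, hF, hF, map_add])
      map_smul' := fun r x => hsc (by
        rw [← hF, RingHom.id_apply, Algebra.smul_def, Algebra.smul_def, map_mul, map_mul, map_mul,
          hF]
        congr 1
        rw [← hF, show Matrix.scalar (Fin n) (algebraMap k A r) = algebraMap k _ r from rfl,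
          AlgEquiv.commutes]
        rfl
        all_goals exact hF x) }
    (hsc (by
      show Matrix.scalar (Fin n) (F 1) = _
      rw [← hF, map_one, map_one, map_one]))
    (fun x y => hsc (by
      show Matrix.scalar (Fin n) (F (x * y)) = Matrix.scalar (Fin n) (F x * F y)
      rw [← hF, map_mul, map_mul, hF, hF, map_mul]))⟩

end Groth.Agent.Azumaya
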