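import Groth.Agent.Azumaya.Basic
import Groth.Agent.Azumaya.CSA

/-! Azumaya algebras through their fibres, and over local rings. -/

set_option autoImplicit false

universe u v w

open TensorProduct MulOpposite

namespace Groth.Agent.Azumaya

theorem isAzumaya_of_csa (k : Type u) [Field k] (A : Type v) [Ring A] [Algebra k A]
    [Algebra.IsCentral k A] [IsSimpleRing A] [FiniteDimensional k A] : IsAzumaya k A := by
  obtain ⟨f, hf⟩ := exists_functional k A
  exact { toFaithfulSMul := faithful_of_unimodular hf, bij := mulLeftRight_bijective k A }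

theorem csa_of_isAzumaya (k : Type u) [Field k] (A : Type v) [Ring A] [Algebra k A] [IsAzumaya k A] :
    Algebra.IsCentral k A ∧ IsSimpleRing A := by
  obtain ⟨f, hf⟩ := exists_functional_azumaya (R := k) A
  let e : A ⊗[k] k ≃ₐ[k] A := Algebra.TensorProduct.rid k k A
  refine ⟨⟨fun z hz => ?_⟩,
    IsSimpleRing.of_ringEquiv e.toRingEquiv ((decomp_azumaya A).isSimpleRing hf)⟩
  have h := (decomp_azumaya (R := k) A).commutant_scalars (B := k) (x := z ⊗ₜ[k] 1) fun y => by
    simp [Subalgebra.mem_center_iff.1 hz y]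
  obtain ⟨c, hc⟩ := h
  refine Algebra.mem_bot.2 ⟨c, ?_⟩
  have := congrArg e hc
  simp only [e, Algebra.TensorProduct.rid_tmul, one_smul] at this
  rw [Algebra.algebraMap_eq_smul_one]
  exact this.symm

variable {R : Type u} [CommRing R]

theorem isAzumaya_iff_fibres (A : Type v) [Ring A] [Algebra R A] [Module.Finite R A]
    [Module.Projective R A] :
    IsAzumaya R A ↔ ∀ (p : Ideal R) [p.IsPrime],
      Algebra.IsCentral p.ResidueField (p.ResidueField ⊗[R] A) ∧
        IsSimpleRing (p.ResidueField ⊗[R] A) := by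
  constructor
  · intro h p _
    have := isAzumaya_baseChange (R := R) p.ResidueField A
    exact csa_of_isAzumaya p.ResidueField (p.ResidueField ⊗[R] A)
  · intro h
    refine isAzumaya_of_local A fun m hm => ?_
    obtain ⟨h1, h2⟩ := h m
    refine ⟨m.ResidueField, inferInstance, inferInstance, fun e => ?_,
      isAzumaya_of_csa m.ResidueField _⟩
    have : m.map (algebraMap R m.ResidueField) = ⊥ := by
      rw [Ideal.map_eq_bot_iff_le_ker, Ideal.ker_algebraMap_residueField]
    exact bot_ne_top (this.symm.trans e)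

theorem isAzumaya_iff_closed_fibre [IsLocalRing R] (A : Type v) [Ring A] [Algebra R A]
    [Module.Finite R A] [Module.Projective R A] :
    IsAzumaya R A ↔ (Algebra.IsCentral (IsLocalRing.ResidueField R) (IsLocalRing.ResidueField R ⊗[R] A) ∧
      IsSimpleRing (IsLocalRing.ResidueField R ⊗[R] A)) := by
  constructor
  · intro h
    have := isAzumaya_baseChange (R := R) (IsLocalRing.ResidueField R) A
    exact csa_of_isAzumaya _ _
  · rintro ⟨h1, h2⟩
    refine isAzumaya_of_local A fun m hm => ?_
    refine ⟨IsLocalRing.ResidueField R, inferInstance, inferInstance, fun e => ?_,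
      isAzumaya_of_csa (IsLocalRing.ResidueField R) _⟩
    have : m.map (algebraMap R (IsLocalRing.ResidueField R)) = ⊥ := by
      rw [Ideal.map_eq_bot_iff_le_ker, IsLocalRing.eq_maximalIdeal hm, IsLocalRing.ResidueField.algebraMap_eq,
        IsLocalRing.ker_residue]
    exact bot_ne_top (this.symm.trans e)

theorem isAzumaya_of_split {A : Type v} [Ring A] [Algebra R A] (S : Type w) [CommRing S] [Algebra R S]
    [Module.FaithfullyFlat R S] (r : ℕ) (hr : 1 ≤ r)
    (e : (S ⊗[R] A) ≃ₐ[S] Matrix (Fin r) (Fin r) S) : IsAzumaya R A := by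
  have : Nonempty (Fin r) := ⟨⟨0, hr⟩⟩
  have := IsAzumaya.matrix S (Fin r)
  have : IsAzumaya S (S ⊗[R] A) := IsAzumaya.of_AlgEquiv S _ _ e.symm
  exact isAzumaya_of_faithfullyFlat S A

variable (A : Type v) [Ring A] [Algebra R A] [IsAzumaya R A]

theorem mem_ideal_iff (I : TwoSidedIdeal A) {x : A} (hx : x ∈ I) :
    x ∈ Submodule.span A (algebraMap R A '' {r | algebraMap R A r ∈ I}) := by
  obtain ⟨⟨n, p, t, hsum, hmem⟩, -⟩ := decomp_azumaya (R := R) A
  have hI : ∀ s : A ⊗[R] Aᵐᵒᵖ, AlgHom.mulLeftRight R A s x ∈ I := by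
    intro s
    induction s using TensorProduct.induction_on with
    | zero => simp [I.zero_mem]
    | tmul a b => rw [AlgHom.mulLeftRight_apply]; exact I.mul_mem_right _ _ (I.mul_mem_left _ _ hx)
    | add s s' hs hs' => rw [map_add, LinearMap.add_apply]; exact I.add_mem hs hs'
  rw [← hsum x]
  refine Submodule.sum_mem _ fun i _ => ?_
  obtain ⟨r, hr⟩ := hmem i x
  rw [← smul_eq_mul, ← hr]
  exact Submodule.smul_mem _ _ (Submodule.subset_span ⟨r, by
    show algebraMap R A r ∈ I
    have := hI (t i); rwa [← hr] at this, rfl⟩)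

theorem comap_map (J : Ideal R) : (Ideal.map (algebraMap R A) J).comap (algebraMap R A) = J := by
  refine le_antisymm (fun r hr => ?_) Ideal.le_comap_map
  obtain ⟨f, hf⟩ := exists_functional_azumaya (R := R) A
  have key : ∀ z ∈ Ideal.map (algebraMap R A) J, ∀ g : A →ₗ[R] R, g z ∈ J := by
    intro z hz
    induction hz using Submodule.span_induction with
    | mem z hz =>
      obtain ⟨j, hj, rfl⟩ := hz
      intro g
      rw [Algebra.algebraMap_eq_smul_one, map_smul, smul_eq_mul]
      exact J.mul_mem_right _ hj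
    | zero => intro g; rw [map_zero]; exact J.zero_mem
    | add y z _ _ hy hz => intro g; rw [map_add]; exact J.add_mem (hy g) (hz g)
    | smul b z _ hb => intro g; exact hb (g.comp (LinearMap.mulLeft R b))
  have := key _ hr f
  rwa [Algebra.algebraMap_eq_smul_one, map_smul, hf, smul_eq_mul, mul_one] at this

theorem aut_inner [IsLocalRing R] (u : A ≃ₐ[R] A) :
    ∃ a : Aˣ, ∀ x : A, u x = (a : A) * x * (a⁻¹ : Aˣ) := by
  have : Nontrivial A := (FaithfulSMul.algebraMap_injective R A).nontrivial
  set m := IsLocalRing.maximalIdeal R with hm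
  obtain ⟨f, hf⟩ := exists_functional_azumaya (R := R) A
  obtain ⟨t, ht⟩ := IsAzumaya.bij.2 ((Algebra.linearMap R A).comp f)
  let τ : A ⊗[R] Aᵐᵒᵖ ≃ₐ[R] A ⊗[R] Aᵐᵒᵖ := Algebra.TensorProduct.congr u AlgEquiv.refl
  set g := AlgHom.mulLeftRight R A (τ t) with hg
  -- values of `g` intertwine
  have hint : ∀ x y, u y * g x = g x * y := by
    intro x y
    have h1 : (y ⊗ₜ[R] (1 : Aᵐᵒᵖ)) * t = ((1 : A) ⊗ₜ[R] op y) * t := by
      apply IsAzumaya.bij.1
      rw [map_mul, map_mul, ht]
      refine LinearMap.ext fun z => ?_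
      simp [Algebra.commutes]
    have h2 := congrArg (fun s => AlgHom.mulLeftRight R A (τ s) x) h1
    simp only [map_mul, Module.End.mul_apply] at h2
    rw [show τ (y ⊗ₜ[R] (1 : Aᵐᵒᵖ)) = u y ⊗ₜ[R] 1 by simp [τ],
      show τ ((1 : A) ⊗ₜ[R] op y) = (1 : A) ⊗ₜ[R] op y by simp [τ]] at h2
    simpa [← hg] using h2
  -- some value is nonzero modulo the maximal ideal
  obtain ⟨x, hx⟩ : ∃ x, g x ∉ m • (⊤ : Submodule R A) := by
    by_contra hall
    push Not at hall
    obtain ⟨n, p, φ, hsum⟩ := exists_dualBasis R A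
    have hg' : g ∈ m • (⊤ : Submodule R (Module.End R A)) := by
      rw [← expand p φ hsum g]
      refine Submodule.sum_mem _ fun i _ => Submodule.sum_mem _ fun j _ =>
        Submodule.smul_mem_smul ?_ Submodule.mem_top
      refine Submodule.smul_induction_on (hall (p j)) (fun r hr z _ => ?_) (fun y z hy hz => ?_)
      · rw [map_smul, smul_eq_mul]; exact m.mul_mem_right _ hr
      · rw [map_add]; exact m.add_mem hy hz
    let θ : Module.End R A ≃ₗ[R] Module.End R A :=
      ((AlgEquiv.ofBijective (AlgHom.mulLeftRight R A) IsAzumaya.bij).symm.trans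
        (τ.symm.trans (AlgEquiv.ofBijective (AlgHom.mulLeftRight R A) IsAzumaya.bij))).toLinearEquiv
    have hθ : θ g = (Algebra.linearMap R A).comp f := by
      show AlgHom.mulLeftRight R A (τ.symm ((AlgEquiv.ofBijective (AlgHom.mulLeftRight R A)
        IsAzumaya.bij).symm g)) = _
      rw [hg, show (AlgEquiv.ofBijective (AlgHom.mulLeftRight R A) IsAzumaya.bij).symm
        (AlgHom.mulLeftRight R A (τ t)) = τ t from AlgEquiv.symm_apply_apply _ _,
        AlgEquiv.symm_apply_apply, ht]
    have h3 : θ g ∈ m • (⊤ : Submodule R (Module.End R A)) := by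
      have := Submodule.mem_map_of_mem (f := θ.toLinearMap) hg'
      rw [Submodule.map_smul''] at this
      exact Submodule.smul_mono le_rfl le_top this
    rw [hθ] at h3
    have h4 : (1 : R) ∈ m := by
      have := Submodule.mem_map_of_mem
        (f := f.comp (LinearMap.applyₗ (R := R) (1 : A) : Module.End R A →ₗ[R] A)) h3
      rw [Submodule.map_smul''] at this
      have := Submodule.smul_mono le_rfl le_top this
      simpa [hf] using this
    exact (IsLocalRing.maximalIdeal.isMaximal R).ne_top ((Ideal.eq_top_iff_one _).2 h4)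
  set a := g x with ha
  -- `a A` is everything
  let N : Submodule R A := LinearMap.range (LinearMap.mulLeft R a)
  let I : TwoSidedIdeal A := TwoSidedIdeal.mk' (↑(N ⊔ m • (⊤ : Submodule R A)))
    (Submodule.zero_mem _) (fun hy hz => Submodule.add_mem _ hy hz) (fun hy => Submodule.neg_mem _ hy)
    (fun {y z} hz => by
      have : N ⊔ m • ⊤ ≤ Submodule.comap (LinearMap.mulLeft R y) (N ⊔ m • (⊤ : Submodule R A)) := by
        refine sup_le ?_ ?_
        · rintro _ ⟨w, rfl⟩
          refine Submodule.mem_sup_left ⟨u.symm y * w, ?_⟩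
          show a * (u.symm y * w) = y * (a * w)
          rw [← mul_assoc, ← mul_assoc, ← hint, AlgEquiv.apply_symm_apply]
        · rw [Submodule.smul_le]
          intro r hr w _
          rw [Submodule.mem_comap, LinearMap.mulLeft_apply, mul_smul_comm]
          exact Submodule.mem_sup_right (Submodule.smul_mem_smul hr Submodule.mem_top)
      exact this hz)
    (fun {z y} hz => by
      have : N ⊔ m • ⊤ ≤ Submodule.comap (LinearMap.mulRight R y) (N ⊔ m • (⊤ : Submodule R A)) := by
        refine sup_le ?_ ?_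
        · rintro _ ⟨w, rfl⟩
          exact Submodule.mem_sup_left ⟨w * y, (mul_assoc _ _ _).symm⟩
        · rw [Submodule.smul_le]
          intro r hr w _
          rw [Submodule.mem_comap, LinearMap.mulRight_apply, smul_mul_assoc]
          exact Submodule.mem_sup_right (Submodule.smul_mem_smul hr Submodule.mem_top)
      exact this hz)
  have htop : (⊤ : Submodule R A) ≤ N ⊔ m • ⊤ := by
    by_cases h1 : ∃ r, algebraMap R A r ∈ I ∧ r ∉ m
    · obtain ⟨r, hr, hrm⟩ := h1
      have hru : IsUnit r := IsLocalRing.notMem_maximalIdeal.1 hrm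
      intro z _
      obtain ⟨c, hc⟩ := hru.map (algebraMap R A)
      have := I.mul_mem_left (z * (c⁻¹ : Aˣ)) _ hr
      rw [← hc, mul_assoc, Units.inv_mul, mul_one] at this
      simpa [I] using this
    · push Not at h1
      exfalso
      apply hx
      have haI : a ∈ I := by
        simp only [I, TwoSidedIdeal.mem_mk']
        exact Submodule.mem_sup_left ⟨1, mul_one a⟩
      have h2 := mem_ideal_iff (R := R) A I haI
      have key : ∀ z ∈ Submodule.span A (algebraMap R A '' {r | algebraMap R A r ∈ I}),
          z ∈ m • (⊤ : Submodule R A) := by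
        intro z hz
        induction hz using Submodule.span_induction with
        | mem z hz =>
          obtain ⟨r, hr, rfl⟩ := hz
          rw [Algebra.algebraMap_eq_smul_one]
          exact Submodule.smul_mem_smul (h1 r hr) Submodule.mem_top
        | zero => exact Submodule.zero_mem _
        | add y z _ _ hy hz => exact Submodule.add_mem _ hy hz
        | smul b z _ hb =>
          refine Submodule.smul_induction_on (p := fun w => b * w ∈ m • (⊤ : Submodule R A)) hb
            (fun r hr w _ => ?_) (fun y z hy hz => ?_)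
          · rw [mul_smul_comm]; exact Submodule.smul_mem_smul hr Submodule.mem_top
          · rw [mul_add]; exact Submodule.add_mem _ hy hz
      exact key a h2
  have hN : N = ⊤ := top_le_iff.1
    (Submodule.le_of_le_smul_of_le_jacobson_bot Module.Finite.fg_top
      (IsLocalRing.maximalIdeal_le_jacobson _) htop)
  obtain ⟨b, hb⟩ : (1 : A) ∈ N := hN ▸ Submodule.mem_top
  have hb' : a * b = 1 := hb
  have hba : b * a = 1 := by
    -- left inverse from `u`
    have h3 : u b * a = 1 := (hint x b).trans hb'
    have h4 : u b = b := by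
      have := congrArg (· * b) h3
      simpa [mul_assoc, hb'] using this
    rwa [h4] at h3
  refine ⟨⟨a, b, hb', hba⟩, fun y => ?_⟩
  show u y = a * y * b
  rw [← hint, mul_assoc, hb', mul_one]

theorem aut_inner_unique [IsLocalRing R] (u : A → A) (a a' : Aˣ)
    (h : ∀ x : A, u x = (a : A) * x * (a⁻¹ : Aˣ)) (h' : ∀ x : A, u x = (a' : A) * x * (a'⁻¹ : Aˣ)) :
    ∃ c : Rˣ, (a' : A) = algebraMap R A (c : R) * (a : A) := by
  obtain ⟨f, hf⟩ := exists_functional_azumaya (R := R) A
  have central : ∀ z : Aˣ, (∀ x, (z : A) * x = x * z) → ∃ r : R, (z : A) = algebraMap R A r := by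
    intro z hz
    obtain ⟨b, hb⟩ := (decomp_azumaya (R := R) A).commutant_scalars (B := R) (x := (z : A) ⊗ₜ[R] 1)
      fun y => by simp [hz y]
    refine ⟨b, ?_⟩
    have := congrArg (Algebra.TensorProduct.rid R R A) hb
    simp only [Algebra.TensorProduct.rid_tmul, one_smul] at this
    rw [Algebra.algebraMap_eq_smul_one]
    exact this
  let z : Aˣ := a' * a⁻¹
  have hz : ∀ x, (z : A) * x = x * z := by
    intro x
    have e := (h' ((a⁻¹ : Aˣ) * x * a)).symm.trans (h _)
    simp only [z, Units.val_mul]
    have := congrArg (· * ((a' : A) * (a⁻¹ : Aˣ))) e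
    simpa [mul_assoc] using this
  obtain ⟨r, hr⟩ := central z hz
  have hzi : ∀ x, (↑z⁻¹ : A) * x = x * ↑z⁻¹ := fun x => by
    have := congrArg (fun w => (↑z⁻¹ : A) * w * ↑z⁻¹) (hz x)
    simpa [mul_assoc] using this.symm
  obtain ⟨s, hs⟩ := central z⁻¹ hzi
  have hrs : r * s = 1 := FaithfulSMul.algebraMap_injective R A (by
    rw [map_mul, map_one, ← hr, ← hs, Units.mul_inv])
  refine ⟨Units.mkOfMulEqOne r s hrs, ?_⟩
  rw [Units.val_mkOfMulEqOne, ← hr]
  simp [z]

end Groth.Agent.Azumaya
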