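import Groth.Agent.Azumaya.Env

/-! Azumaya algebras over commutative rings. -/

set_option autoImplicit false

universe u v w

open TensorProduct MulOpposite

namespace Groth.Agent.Azumaya

variable {R : Type u} [CommRing R]

theorem exists_unimodular {A : Type v} [AddCommGroup A] [Module R A] [Module.Finite R A]
    [Module.Projective R A] (x : A)
    (h : ∀ m : Ideal R, m.IsMaximal → x ∉ m • (⊤ : Submodule R A)) :
    ∃ f : A →ₗ[R] R, f x = 1 := by
  by_contra hc
  push Not at hc
  let ev : (A →ₗ[R] R) →ₗ[R] R := LinearMap.applyₗ x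
  have hne : (LinearMap.range ev : Ideal R) ≠ ⊤ := fun e => by
    have : (1 : R) ∈ LinearMap.range ev := by rw [e]; trivial
    obtain ⟨f, hf⟩ := this
    exact hc f hf
  obtain ⟨m, hm, hle⟩ := Ideal.exists_le_maximal _ hne
  obtain ⟨n, p, f, hsum⟩ := exists_dualBasis R A
  apply h m hm
  rw [← hsum x]
  exact Submodule.sum_mem _ fun i _ => Submodule.smul_mem_smul (hle ⟨f i, rfl⟩) Submodule.mem_top

theorem one_notMem_smul {A : Type v} [Ring A] [Algebra R A] [Module.Finite R A] [FaithfulSMul R A]
    (m : Ideal R) (hm : m.IsMaximal) : (1 : A) ∉ m • (⊤ : Submodule R A) := by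
  intro h1
  have hle : (⊤ : Submodule R A) ≤ m • ⊤ := by
    intro a _
    have key : ∀ a : A, a * 1 ∈ m • (⊤ : Submodule R A) := by
      refine Submodule.smul_induction_on h1
        (p := fun z => ∀ a : A, a * z ∈ m • (⊤ : Submodule R A)) ?_ ?_
      · intro r hr z _ a
        rw [mul_smul_comm]
        exact Submodule.smul_mem_smul hr Submodule.mem_top
      · intro z w hz hw a
        rw [mul_add]
        exact Submodule.add_mem _ (hz a) (hw a)
    simpa using key a
  obtain ⟨r, hr, hr0⟩ :=
    Submodule.exists_sub_one_mem_and_smul_eq_zero_of_fg_of_le_smul m ⊤ Module.Finite.fg_top hle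
  have : r = 0 := eq_of_smul_eq_smul (α := A) fun a => by rw [hr0 a Submodule.mem_top, zero_smul]
  subst this
  exact hm.ne_top ((Ideal.eq_top_iff_one _).2 (by simpa using m.neg_mem hr))

theorem exists_functional_azumaya (A : Type v) [Ring A] [Algebra R A] [IsAzumaya R A] :
    ∃ f : A →ₗ[R] R, f 1 = 1 :=
  exists_unimodular 1 one_notMem_smul

theorem decomp_azumaya (A : Type v) [Ring A] [Algebra R A] [IsAzumaya R A] :
    Decomp R A (scalars R A) :=
  decomp_of_surjective R A IsAzumaya.bij.2 _ (exists_functional_azumaya A).choose_spec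

theorem faithful_of_unimodular {A : Type v} [AddCommGroup A] [Module R A] {f : A →ₗ[R] R} {x : A}
    (hf : f x = 1) : FaithfulSMul R A :=
  ⟨fun {a b} h => by simpa [hf] using congrArg f (h x)⟩

/-- A rank one map. -/
def unit' {M : Type v} [AddCommGroup M] [Module R M] (f : M →ₗ[R] R) (x : M) : Module.End R M :=
  f.smulRight x

theorem expand {M : Type v} [AddCommGroup M] [Module R M] {ι : Type*} [Fintype ι] (p : ι → M)
    (f : ι → M →ₗ[R] R) (hsum : ∀ x, ∑ i, f i x • p i = x) (a : Module.End R M) :
    ∑ i, ∑ j, f i (a (p j)) • unit' (f j) (p i) = a := by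
  ext v
  conv_rhs => rw [← hsum v, map_sum]
  rw [Finset.sum_comm]
  simp only [LinearMap.sum_apply, LinearMap.smul_apply, unit', LinearMap.smulRight_apply, map_smul]
  refine Finset.sum_congr rfl fun j _ => ?_
  conv_rhs => rw [← hsum (a (p j)), Finset.smul_sum]
  exact Finset.sum_congr rfl fun i _ => smul_comm _ _ _

theorem isAzumaya_end (P : Type v) [AddCommGroup P] [Module R P] [Module.Finite R P]
    [Module.Projective R P] [FaithfulSMul R P] : IsAzumaya R (Module.End R P) := by
  obtain ⟨n, p, f, hsum⟩ := exists_dualBasis R P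
  let E : Fin n → Fin n → Module.End R P := fun i j => unit' (f j) (p i)
  let inv : Module.End R (Module.End R P) → Module.End R P ⊗[R] (Module.End R P)ᵐᵒᵖ := fun F =>
    ∑ i, ∑ j, ∑ k, ∑ l, f i (F (E j k) (p l)) • (E i j ⊗ₜ[R] op (E k l))
  have hexp : ∀ a : Module.End R P, ∑ i, ∑ j, f i (a (p j)) • E i j = a := fun a => expand p f hsum a
  have h1 : ∀ t, inv (AlgHom.mulLeftRight R (Module.End R P) t) = t := by
    intro t
    induction t using TensorProduct.induction_on with
    | zero => simp [inv]
    | add s t hs ht =>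
      conv_rhs => rw [← hs, ← ht]
      simp [inv, add_smul, Finset.sum_add_distrib]
    | tmul a b =>
      have e : ∀ i j k l, f i (AlgHom.mulLeftRight R (Module.End R P) (a ⊗ₜ b) (E j k) (p l)) •
          (E i j ⊗ₜ[R] op (E k l)) =
          (f i (a (p j)) • E i j) ⊗ₜ[R] op (f k (b.unop (p l)) • E k l) := by
        intro i j k l
        rw [AlgHom.mulLeftRight_apply, MulOpposite.op_smul, TensorProduct.smul_tmul_smul]
        simp [E, unit', mul_comm]
      simp only [inv, e]
      simp only [← TensorProduct.tmul_sum, ← TensorProduct.sum_tmul, ← Finset.op_sum, hexp,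
        op_unop]
  have h2 : ∀ F, AlgHom.mulLeftRight R (Module.End R P) (inv F) = F := by
    intro F
    ext X v
    simp only [inv, map_sum, map_smul, LinearMap.sum_apply, LinearMap.smul_apply,
      AlgHom.mulLeftRight_apply, unop_op]
    have hX : ∀ i l, ∑ j, ∑ k, f i (F (E j k) (p l)) • ((E i j * X * E k l) v) =
        f i (F X (p l)) • E i l v := by
      intro i l
      conv_rhs => rw [← hexp X]
      simp only [map_sum, map_smul, LinearMap.sum_apply, LinearMap.smul_apply, Finset.sum_smul]
      refine Finset.sum_congr rfl fun j _ => Finset.sum_congr rfl fun k _ => ?_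
      simp [E, unit', smul_smul]
      ring_nf
    conv_rhs => rw [← hexp (F X)]
    simp only [LinearMap.sum_apply, LinearMap.smul_apply]
    refine Finset.sum_congr rfl fun i _ => ?_
    rw [Finset.sum_congr rfl fun l _ => (hX i l).symm]
    conv_rhs => rw [Finset.sum_comm]
    exact Finset.sum_congr rfl fun j _ => Finset.sum_comm
  have : Module.Projective R (Module.End R P) := by
    refine Module.Projective.of_split
      (i := LinearMap.pi fun ij : Fin n × Fin n =>
        ((f ij.1).comp (LinearMap.applyₗ (R := R) (p ij.2) : Module.End R P →ₗ[R] P)))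
      (s := ∑ ij : Fin n × Fin n,
        (LinearMap.proj ij : (Fin n × Fin n → R) →ₗ[R] R).smulRight (E ij.1 ij.2)) ?_
    refine LinearMap.ext fun a => ?_
    simp [Fintype.sum_prod_type, hexp]
  have : Module.Finite R (Module.End R P) := Module.Finite.of_surjective
    (∑ ij : Fin n × Fin n, (LinearMap.proj ij : (Fin n × Fin n → R) →ₗ[R] R).smulRight (E ij.1 ij.2))
    fun a => ⟨fun ij => f ij.1 (a (p ij.2)), by simp [Fintype.sum_prod_type, hexp]⟩
  exact
    { toFaithfulSMul := ⟨fun {a b} h => eq_of_smul_eq_smul (α := P) fun x => by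
        simpa using LinearMap.congr_fun (h 1) x⟩
      bij := Function.bijective_iff_has_inverse.2 ⟨inv, h1, h2⟩ }

theorem bijective_map {M : Type v} {N : Type w} [AddCommGroup M] [Module R M] [Module.Finite R M]
    [Module.Projective R M] [AddCommGroup N] [Module R N] [Module.Finite R N]
    [Module.Projective R N] :
    Function.Bijective
      (TensorProduct.homTensorHomMap (RingHom.id R) M N M N) := by
  obtain ⟨n, p, f, hf⟩ := exists_dualBasis R M
  obtain ⟨m, q, g, hg⟩ := exists_dualBasis R N
  let P : Fin n × Fin m → M ⊗[R] N := fun x => p x.1 ⊗ₜ q x.2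
  let F : Fin n × Fin m → M ⊗[R] N →ₗ[R] R := fun x =>
    (TensorProduct.lid R R).toLinearMap.comp (TensorProduct.map (f x.1) (g x.2))
  have hP : ∀ z, ∑ x, F x z • P x = z := by
    intro z
    induction z using TensorProduct.induction_on with
    | zero => simp
    | tmul a b =>
      conv_rhs => rw [← hf a, ← hg b, TensorProduct.sum_tmul]
      simp only [TensorProduct.tmul_sum, Fintype.sum_prod_type, TensorProduct.smul_tmul_smul]
      simp [F, P, mul_comm]
    | add y z hy hz =>
      conv_rhs => rw [← hy, ← hz]
      simp [add_smul, Finset.sum_add_distrib]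
  have hE : ∀ x y : Fin n × Fin m,
      TensorProduct.homTensorHomMap (RingHom.id R) M N M N (unit' (f y.1) (p x.1) ⊗ₜ unit' (g y.2) (q x.2)) =
        unit' (F y) (P x) := by
    intro x y
    refine TensorProduct.ext' fun a b => ?_
    simp [unit', F, P, TensorProduct.smul_tmul', smul_smul, mul_comm]
  let Ψ : Module.End R (M ⊗[R] N) → Module.End R M ⊗[R] Module.End R N := fun G =>
    ∑ x, ∑ y, F x (G (P y)) • (unit' (f y.1) (p x.1) ⊗ₜ unit' (g y.2) (q x.2))
  refine Function.bijective_iff_has_inverse.2 ⟨Ψ, fun t => ?_, fun G => ?_⟩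
  · induction t using TensorProduct.induction_on with
    | zero => simp [Ψ]
    | add s t hs ht =>
      conv_rhs => rw [← hs, ← ht]
      simp [Ψ, add_smul, Finset.sum_add_distrib]
    | tmul a b =>
      conv_rhs => rw [← expand p f hf a, ← expand q g hg b]
      simp only [Ψ, TensorProduct.sum_tmul]
      simp only [TensorProduct.tmul_sum, Fintype.sum_prod_type, TensorProduct.smul_tmul_smul]
      refine Finset.sum_congr rfl fun i _ => ?_
      rw [Finset.sum_comm]
      refine Finset.sum_congr rfl fun j _ => Finset.sum_congr rfl fun k _ =>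
        Finset.sum_congr rfl fun l _ => ?_
      simp [F, P, mul_comm]
  · simp only [Ψ, map_sum, map_smul, hE]
    exact expand P F hP G

theorem isAzumaya_tensor (A : Type v) [Ring A] [Algebra R A] [IsAzumaya R A]
    (B : Type w) [Ring B] [Algebra R B] [IsAzumaya R B] : IsAzumaya R (A ⊗[R] B) := by
  let T := (A ⊗[R] B) ⊗[R] (A ⊗[R] B)ᵐᵒᵖ
  let σ : (A ⊗[R] Aᵐᵒᵖ) ⊗[R] (B ⊗[R] Bᵐᵒᵖ) →ₗ[R] T :=
    (TensorProduct.map LinearMap.id
        ((opLinearEquiv R).toLinearMap.comp
          (TensorProduct.map (opLinearEquiv R).symm.toLinearMap (opLinearEquiv R).symm.toLinearMap))).comp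
      (TensorProduct.tensorTensorTensorComm R A Aᵐᵒᵖ B Bᵐᵒᵖ).toLinearMap
  have hσ : Function.Surjective σ := by
    intro t
    induction t using TensorProduct.induction_on with
    | zero => exact ⟨0, map_zero σ⟩
    | add s t hs ht =>
      obtain ⟨x, rfl⟩ := hs
      obtain ⟨y, rfl⟩ := ht
      exact ⟨x + y, map_add σ x y⟩
    | tmul z w =>
      induction w using MulOpposite.rec' with
      | _ w =>
      induction z using TensorProduct.induction_on with
      | zero => exact ⟨0, by simp⟩
      | add s t hs ht =>
        obtain ⟨x, hx⟩ := hs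
        obtain ⟨y, hy⟩ := ht
        exact ⟨x + y, by rw [map_add, hx, hy, TensorProduct.add_tmul]⟩
      | tmul a b =>
        induction w using TensorProduct.induction_on with
        | zero => exact ⟨0, by simp⟩
        | add s t hs ht =>
          obtain ⟨x, hx⟩ := hs
          obtain ⟨y, hy⟩ := ht
          exact ⟨x + y, by rw [map_add, hx, hy, MulOpposite.op_add, TensorProduct.tmul_add]⟩
        | tmul a' b' => exact ⟨(a ⊗ₜ op a') ⊗ₜ (b ⊗ₜ op b'), by simp [σ]⟩
  have hcomp : (AlgHom.mulLeftRight R (A ⊗[R] B)).toLinearMap.comp σ =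
      (TensorProduct.homTensorHomMap (RingHom.id R) A B A B).comp
        (TensorProduct.map (AlgHom.mulLeftRight R A).toLinearMap (AlgHom.mulLeftRight R B).toLinearMap) := by
    refine TensorProduct.ext' fun x y => ?_
    induction x using TensorProduct.induction_on with
    | zero => simp
    | add s t hs ht => simp only [TensorProduct.add_tmul, map_add, hs, ht]
    | tmul a a' =>
      induction y using TensorProduct.induction_on with
      | zero => simp
      | add s t hs ht => simp only [TensorProduct.tmul_add, map_add, hs, ht]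
      | tmul b b' =>
        refine TensorProduct.ext' fun c d => ?_
        simp [σ]
  have hb : Function.Bijective ((TensorProduct.homTensorHomMap (RingHom.id R) A B A B).comp
      (TensorProduct.map (AlgHom.mulLeftRight R A).toLinearMap (AlgHom.mulLeftRight R B).toLinearMap)) := by
    rw [LinearMap.coe_comp]
    exact bijective_map.comp (TensorProduct.map_bijective IsAzumaya.bij IsAzumaya.bij)
  rw [← hcomp, LinearMap.coe_comp] at hb
  obtain ⟨f, hf⟩ := exists_functional_azumaya (R := R) A
  obtain ⟨g, hg⟩ := exists_functional_azumaya (R := R) B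
  exact
    { toFaithfulSMul := faithful_of_unimodular
        (f := (TensorProduct.lid R R).toLinearMap.comp (TensorProduct.map f g)) (x := (1 : A ⊗[R] B))
        (by simp [Algebra.TensorProduct.one_def, hf, hg])
      bij := (Function.Bijective.of_comp_iff _
        ⟨Function.Injective.of_comp hb.1, hσ⟩).1 hb }

section BaseChange

variable (S : Type w) [CommRing S] [Algebra R S]

theorem tEnd_tmul {M : Type v} [AddCommGroup M] [Module R M] (s t : S) (φ : Module.End R M) (x : M) :
    LinearMap.tensorProductEnd R S M (s ⊗ₜ[R] φ) (t ⊗ₜ[R] x) = (s * t) ⊗ₜ[R] φ x := rfl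

theorem bijective_tensorProductEnd (M : Type v) [AddCommGroup M] [Module R M] [Module.Finite R M]
    [Module.Projective R M] : Function.Bijective (LinearMap.tensorProductEnd R S M) := by
  obtain ⟨n, p, f, hf⟩ := exists_dualBasis R M
  let P : Fin n → S ⊗[R] M := fun i => 1 ⊗ₜ p i
  let F : Fin n → S ⊗[R] M →ₗ[S] S := fun i =>
    (TensorProduct.AlgebraTensorModule.rid R S S).toLinearMap.comp ((f i).baseChange S)
  have hP : ∀ z, ∑ i, F i z • P i = z := by
    intro z
    induction z using TensorProduct.induction_on with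
    | zero => simp
    | tmul s x =>
      conv_rhs => rw [← hf x, TensorProduct.tmul_sum]
      refine Finset.sum_congr rfl fun i _ => ?_
      simp [F, P, TensorProduct.smul_tmul', TensorProduct.tmul_smul, Algebra.smul_def]
    | add y z hy hz =>
      conv_rhs => rw [← hy, ← hz]
      simp [add_smul, Finset.sum_add_distrib]
  have hE : ∀ i j, LinearMap.tensorProductEnd R S M ((1 : S) ⊗ₜ[R] unit' (f j) (p i)) =
      unit' (F j) (P i) := by
    intro i j
    refine LinearMap.ext fun z => ?_
    induction z using TensorProduct.induction_on with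
    | zero => simp
    | tmul s x =>
      rw [tEnd_tmul]
      simp [F, P, unit', TensorProduct.smul_tmul', TensorProduct.tmul_smul, Algebra.smul_def]
    | add y z hy hz => rw [map_add, map_add, hy, hz]
  let Ψ : Module.End S (S ⊗[R] M) → S ⊗[R] Module.End R M := fun G =>
    ∑ i, ∑ j, F i (G (P j)) ⊗ₜ[R] unit' (f j) (p i)
  refine Function.bijective_iff_has_inverse.2 ⟨Ψ, fun t => ?_, fun G => ?_⟩
  · induction t using TensorProduct.induction_on with
    | zero => simp [Ψ]
    | add s t hs ht =>
      conv_rhs => rw [← hs, ← ht]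
      simp [Ψ, TensorProduct.add_tmul, Finset.sum_add_distrib]
    | tmul s a =>
      conv_rhs => rw [← expand p f hf a]
      simp only [Ψ, TensorProduct.tmul_sum]
      refine Finset.sum_congr rfl fun i _ => Finset.sum_congr rfl fun j _ => ?_
      rw [← TensorProduct.smul_tmul]
      congr 1
      rw [tEnd_tmul]
      simp [F, P, Algebra.smul_def, mul_comm]
  · have : ∀ i j, F i (G (P j)) ⊗ₜ[R] unit' (f j) (p i) =
        F i (G (P j)) • ((1 : S) ⊗ₜ[R] unit' (f j) (p i)) := fun i j => by
      rw [TensorProduct.smul_tmul', smul_eq_mul, mul_one]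
    simp only [Ψ, this, map_sum, map_smul, hE]
    exact expand P F hP G

variable (A : Type v) [Ring A] [Algebra R A]

/-- Base change of the enveloping algebra. -/
noncomputable def envEquiv : S ⊗[R] (A ⊗[R] Aᵐᵒᵖ) ≃ₗ[S] (S ⊗[R] A) ⊗[S] (S ⊗[R] A)ᵐᵒᵖ :=
  (TensorProduct.AlgebraTensorModule.distribBaseChange R S A Aᵐᵒᵖ).trans
    (TensorProduct.congr (LinearEquiv.refl S _)
      ((TensorProduct.AlgebraTensorModule.congr (LinearEquiv.refl S S)
        (opLinearEquiv R).symm).trans (opLinearEquiv S)))

theorem mulLeftRight_envEquiv (t : S ⊗[R] (A ⊗[R] Aᵐᵒᵖ)) :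
    AlgHom.mulLeftRight S (S ⊗[R] A) (envEquiv S A t) =
      LinearMap.tensorProductEnd R S A ((AlgHom.mulLeftRight R A).toLinearMap.baseChange S t) := by
  induction t using TensorProduct.induction_on with
  | zero => simp
  | add s t hs ht => simp only [map_add, hs, ht]
  | tmul s x =>
    induction x using TensorProduct.induction_on with
    | zero => simp
    | add x y hx hy => simp only [TensorProduct.tmul_add, map_add, hx, hy]
    | tmul a b =>
      refine LinearMap.ext fun z => ?_
      induction z using TensorProduct.induction_on with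
      | zero => simp
      | add y z hy hz => simp only [map_add, hy, hz]
      | tmul s' c =>
        rw [LinearMap.baseChange_tmul, tEnd_tmul]
        simp [envEquiv, mul_assoc, TensorProduct.smul_tmul']

theorem bijective_baseChange_iff [Module.Finite R A] [Module.Projective R A] :
    Function.Bijective (AlgHom.mulLeftRight S (S ⊗[R] A)) ↔
      Function.Bijective ((AlgHom.mulLeftRight R A).toLinearMap.baseChange S) := by
  rw [← Function.Bijective.of_comp_iff (AlgHom.mulLeftRight S (S ⊗[R] A)) (envEquiv S A).bijective,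
    show (AlgHom.mulLeftRight S (S ⊗[R] A) ∘ envEquiv S A) =
      LinearMap.tensorProductEnd R S A ∘ (AlgHom.mulLeftRight R A).toLinearMap.baseChange S from
      funext (mulLeftRight_envEquiv S A)]
  exact Function.Bijective.of_comp_iff' (bijective_tensorProductEnd S A) _

theorem isAzumaya_baseChange [IsAzumaya R A] : IsAzumaya S (S ⊗[R] A) := by
  obtain ⟨f, hf⟩ := exists_functional_azumaya (R := R) A
  exact
    { toFaithfulSMul := faithful_of_unimodular
        (f := (TensorProduct.AlgebraTensorModule.rid R S S).toLinearMap.comp (f.baseChange S))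
        (x := (1 : S ⊗[R] A)) (by simp [Algebra.TensorProduct.one_def, hf])
      bij := (bijective_baseChange_iff S A).2
        ((LinearEquiv.ofBijective (AlgHom.mulLeftRight R A).toLinearMap IsAzumaya.bij).baseChange R S _ _).bijective }

theorem isAzumaya_of_faithfullyFlat [Module.FaithfullyFlat R S] [IsAzumaya S (S ⊗[R] A)] :
    IsAzumaya R A := by
  have : Module.Finite R A := Module.Finite.of_finite_tensorProduct_of_faithfullyFlat S
  have : Module.Flat R A := Module.Flat.of_flat_tensorProduct R A S
  have : Module.FinitePresentation R A := by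
    obtain ⟨n, π, hπ⟩ := Module.Finite.exists_fin' R A
    refine Module.finitePresentation_of_surjective π hπ ?_
    let K := LinearMap.ker π
    suffices Module.Finite R K from Module.Finite.iff_fg.1 this
    have hfS : Module.Finite S (S ⊗[R] K) := by
      let ι := K.subtype.baseChange S
      have hι : Function.Injective ι := Module.Flat.lTensor_preserves_injective_linearMap (M := S) _ K.subtype_injective
      have hex : Function.Exact ι (π.baseChange S) :=
        lTensor_exact S (LinearMap.exact_subtype_ker_map π) hπ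
      obtain ⟨s, hs⟩ := Module.projective_lifting_property (π.baseChange S) LinearMap.id
        (LinearMap.lTensor_surjective S hπ)
      have hs' : ∀ z, π.baseChange S (s z) = z := fun z => LinearMap.congr_fun hs z
      let r : S ⊗[R] (Fin n → R) →ₗ[S] LinearMap.range ι :=
        (LinearMap.id - s.comp (π.baseChange S)).codRestrict _ fun z => (hex _).1 (by simp [hs'])
      have : Module.Finite S (LinearMap.range ι) := Module.Finite.of_surjective r fun z => by
        refine ⟨z, Subtype.ext ?_⟩
        obtain ⟨w, hw⟩ := z.2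
        have : π.baseChange S z = 0 := by rw [← hw]; exact hex.apply_apply_eq_zero w
        simp [r, this]
      exact Module.Finite.equiv (LinearEquiv.ofInjective ι hι).symm
    exact Module.Finite.of_finite_tensorProduct_of_faithfullyFlat S
  have : Module.Projective R A := Module.Flat.projective_of_finitePresentation
  have hb : Function.Bijective ((AlgHom.mulLeftRight R A).toLinearMap.lTensor S) :=
    (bijective_baseChange_iff S A).1 IsAzumaya.bij
  exact
    { toFaithfulSMul := ⟨fun {a b} h => by
        apply FaithfulSMul.algebraMap_injective R S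
        refine eq_of_smul_eq_smul (α := S ⊗[R] A) fun z => ?_
        induction z using TensorProduct.induction_on with
        | zero => simp
        | add y z hy hz => rw [smul_add, smul_add, hy, hz]
        | tmul s x =>
          rw [algebraMap_smul, algebraMap_smul, ← TensorProduct.tmul_smul, h, TensorProduct.tmul_smul]⟩
      bij := (Module.FaithfullyFlat.lTensor_bijective_iff_bijective R S _).1 hb }

end BaseChange

section Fibres

theorem subsingleton_of_tensor {C : Type v} [AddCommGroup C] [Module R C] [Module.Finite R C]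
    (h : ∀ m : Ideal R, m.IsMaximal → ∃ (S : Type w) (_ : CommRing S) (_ : Algebra R S),
      m.map (algebraMap R S) ≠ ⊤ ∧ Subsingleton (S ⊗[R] C)) : Subsingleton C := by
  rw [subsingleton_iff_forall_eq 0]
  intro c
  by_contra hc
  obtain ⟨m, hm, hle⟩ := Ideal.exists_le_maximal (Module.annihilator R C) fun e => hc (by
    have := Module.mem_annihilator.1 (show (1 : R) ∈ Module.annihilator R C by rw [e]; trivial) c
    rwa [one_smul] at this)
  obtain ⟨S, _, _, hne, hsub⟩ := h m hm
  have hCm : m • (⊤ : Submodule R C) ≠ ⊤ := fun e => by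
    obtain ⟨r, hr, hr0⟩ := Submodule.exists_sub_one_mem_and_smul_eq_zero_of_fg_of_le_smul m ⊤
      Module.Finite.fg_top e.ge
    have : r ∈ m := hle (Module.mem_annihilator.2 fun x => hr0 x Submodule.mem_top)
    exact hm.ne_top ((Ideal.eq_top_iff_one _).2 (by simpa using m.sub_mem this hr))
  let Q := C ⧸ (m • (⊤ : Submodule R C))
  letI := Ideal.Quotient.field m
  have : Nontrivial Q := Submodule.Quotient.nontrivial_iff.2 hCm
  obtain ⟨q, hq⟩ := exists_ne (0 : Q)
  obtain ⟨φ, hφ⟩ := Module.Projective.exists_dual_ne_zero (R ⧸ m) hq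
  let ψ : C →ₗ[R] R ⧸ m := (φ.restrictScalars R).comp (Submodule.mkQ _)
  have hψ : Function.Surjective ψ := by
    intro y
    obtain ⟨c, hc'⟩ := Submodule.Quotient.mk_surjective _ ((y * (φ q)⁻¹) • q)
    refine ⟨c, ?_⟩
    show φ _ = y
    rw [Submodule.mkQ_apply, hc', map_smul, smul_eq_mul, mul_assoc, inv_mul_cancel₀ hφ, mul_one]
  have : Subsingleton (S ⊗[R] (R ⧸ m)) := (LinearMap.lTensor_surjective S hψ).subsingleton
  have hss : Subsingleton (S ⧸ m • (⊤ : Submodule R S)) :=
    (TensorProduct.tensorQuotEquivQuotSMul S m).symm.toEquiv.subsingleton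
  apply hne
  rw [Submodule.Quotient.subsingleton_iff, Ideal.smul_top_eq_map] at hss
  rw [Ideal.eq_top_iff_one]
  show (1 : S) ∈ (m.map (algebraMap R S)).restrictScalars R
  rw [hss]; trivial

theorem bijective_of_tensor {M : Type v} {N : Type v} [AddCommGroup M] [Module R M]
    [Module.Finite R M] [AddCommGroup N] [Module R N] [Module.Finite R N] [Module.Projective R N]
    (φ : M →ₗ[R] N)
    (h : ∀ m : Ideal R, m.IsMaximal → ∃ (S : Type w) (_ : CommRing S) (_ : Algebra R S),
      m.map (algebraMap R S) ≠ ⊤ ∧ Function.Bijective (φ.lTensor S)) :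
    Function.Bijective φ := by
  have hs : Function.Surjective φ := by
    rw [← LinearMap.range_eq_top, ← Submodule.Quotient.subsingleton_iff]
    refine subsingleton_of_tensor (R := R) fun m hm => ?_
    obtain ⟨S, i1, i2, hne, hb⟩ := h m hm
    refine ⟨S, i1, i2, hne, ?_⟩
    rw [subsingleton_iff_forall_eq 0]
    intro z
    obtain ⟨y, rfl⟩ := LinearMap.lTensor_surjective S (Submodule.mkQ_surjective (LinearMap.range φ)) z
    obtain ⟨x, rfl⟩ := hb.2 y
    rw [← LinearMap.lTensor_comp_apply, LinearMap.range_mkQ_comp, LinearMap.lTensor_zero,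
      LinearMap.zero_apply]
  refine ⟨?_, hs⟩
  obtain ⟨s, hsec⟩ := Module.projective_lifting_property φ LinearMap.id hs
  have hsec' : ∀ z, φ (s z) = z := fun z => LinearMap.congr_fun hsec z
  let r : M →ₗ[R] LinearMap.ker φ :=
    (LinearMap.id - s.comp φ).codRestrict _ fun z => by simp [hsec']
  have hr : r.comp (LinearMap.ker φ).subtype = LinearMap.id := by
    refine LinearMap.ext fun z => Subtype.ext ?_
    have : φ (z : M) = 0 := z.2
    simp [r, this]
  have : Module.Finite R (LinearMap.ker φ) :=
    Module.Finite.of_surjective r fun z => ⟨z, LinearMap.congr_fun hr z⟩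
  rw [← LinearMap.ker_eq_bot, Submodule.eq_bot_iff]
  suffices Subsingleton (LinearMap.ker φ) from fun x hx =>
    congrArg Subtype.val (Subsingleton.elim (⟨x, hx⟩ : LinearMap.ker φ) 0)
  refine subsingleton_of_tensor (R := R) fun m hm => ?_
  obtain ⟨S, i1, i2, hne, hb⟩ := h m hm
  refine ⟨S, i1, i2, hne, ?_⟩
  rw [subsingleton_iff_forall_eq 0]
  intro z
  have h0 : (LinearMap.ker φ).subtype.lTensor S z = 0 := hb.1 (by
    rw [map_zero, ← LinearMap.lTensor_comp_apply, LinearMap.comp_ker_subtype,
      LinearMap.lTensor_zero, LinearMap.zero_apply])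
  have h1 := congrArg (r.lTensor S) h0
  rwa [map_zero, ← LinearMap.lTensor_comp_apply, hr, LinearMap.lTensor_id, LinearMap.id_apply] at h1

/-- An algebra which becomes Azumaya over enough base changes is Azumaya. -/
theorem isAzumaya_of_local (A : Type v) [Ring A] [Algebra R A] [Module.Finite R A]
    [Module.Projective R A]
    (h : ∀ m : Ideal R, m.IsMaximal → ∃ (S : Type w) (_ : CommRing S) (_ : Algebra R S),
      m.map (algebraMap R S) ≠ ⊤ ∧ IsAzumaya S (S ⊗[R] A)) : IsAzumaya R A := by
  have hne : ∀ m : Ideal R, m.IsMaximal → (1 : A) ∉ m • (⊤ : Submodule R A) := by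
    intro m hm h1
    obtain ⟨S, _, _, hm', _⟩ := h m hm
    obtain ⟨f, hf⟩ := exists_functional_azumaya (R := S) (S ⊗[R] A)
    apply hm'
    rw [Ideal.eq_top_iff_one, ← hf, Algebra.TensorProduct.one_def]
    refine Submodule.smul_induction_on h1 (fun r hr x _ => ?_) (fun x y hx hy => ?_)
    · rw [TensorProduct.tmul_smul, ← algebraMap_smul S r, map_smul, smul_eq_mul]
      exact Ideal.mul_mem_right _ _ (Ideal.mem_map_of_mem _ hr)
    · rw [TensorProduct.tmul_add, map_add]; exact Ideal.add_mem _ hx hy
  obtain ⟨f, hf⟩ := exists_unimodular (1 : A) hne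
  have : FaithfulSMul R A := faithful_of_unimodular hf
  have := isAzumaya_end (R := R) A
  haveI : Module.Finite R (Module.End R A) := IsAzumaya.toFinite
  haveI : Module.Projective R (Module.End R A) := IsAzumaya.toProjective
  exact
    { toFaithfulSMul := faithful_of_unimodular hf
      bij := bijective_of_tensor (AlgHom.mulLeftRight R A).toLinearMap fun m hm => by
        obtain ⟨S, i1, i2, hm', _⟩ := h m hm
        exact ⟨S, i1, i2, hm', (bijective_baseChange_iff S A).1 IsAzumaya.bij⟩ }

end Fibres

end Groth.Agent.Azumaya
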