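import Mathlib

/-!
Algebras with enough inner endomorphisms: two-sided ideals and centres of tensor products.
-/

set_option autoImplicit false

universe u v w

open TensorProduct MulOpposite

namespace Groth.Agent.Azumaya

section General

variable (R : Type u) [CommRing R] (A : Type v) [Ring A] [Algebra R A]

/-- A dual basis. -/
theorem exists_dualBasis (M : Type v) [AddCommGroup M] [Module R M] [Module.Finite R M]
    [Module.Projective R M] :
    ∃ (n : ℕ) (p : Fin n → M) (f : Fin n → M →ₗ[R] R), ∀ x, ∑ i, f i x • p i = x := by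
  obtain ⟨n, F, G, -, -, hFG⟩ := Module.Finite.exists_comp_eq_id_of_projective R M
  refine ⟨n, fun i => F (Pi.single i 1), fun i => (LinearMap.proj i).comp G, fun x => ?_⟩
  simp only [LinearMap.comp_apply, LinearMap.proj_apply]
  rw [show ∑ i, G x i • F (Pi.single i 1) = F (∑ i, G x i • Pi.single i (1 : R)) by simp [map_sum]]
  rw [show (∑ i, G x i • Pi.single i (1 : R)) = G x by
    funext j; simp [Pi.single_apply]]
  exact congrArg (fun L : M →ₗ[R] M => L x) hFG

/-- `A` has inner endomorphisms decomposing the identity with values in `Z`. -/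
def Decomp (Z : Submodule R A) : Prop :=
  (∃ (n : ℕ) (p : Fin n → A) (t : Fin n → A ⊗[R] Aᵐᵒᵖ),
      (∀ x, ∑ i, p i * AlgHom.mulLeftRight R A (t i) x = x) ∧
      ∀ i x, AlgHom.mulLeftRight R A (t i) x ∈ Z) ∧
    ∃ t : A ⊗[R] Aᵐᵒᵖ, AlgHom.mulLeftRight R A t 1 = 1 ∧ ∀ x, AlgHom.mulLeftRight R A t x ∈ Z

/-- The scalars. -/
abbrev scalars : Submodule R A := LinearMap.range (Algebra.linearMap R A)

theorem decomp_of_surjective [Module.Finite R A] [Module.Projective R A]
    (hs : Function.Surjective (AlgHom.mulLeftRight R A)) (f : A →ₗ[R] R) (hf : f 1 = 1) :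
    Decomp R A (scalars R A) := by
  obtain ⟨n, p, g, hg⟩ := exists_dualBasis R A
  choose T hT using fun (h : A →ₗ[R] R) => hs ((Algebra.linearMap R A).comp h)
  refine ⟨⟨n, p, fun i => T (g i), fun x => ?_, fun i x => ?_⟩, T f, ?_, fun x => ?_⟩
  · conv_rhs => rw [← hg x]
    refine Finset.sum_congr rfl fun i _ => ?_
    rw [hT, LinearMap.comp_apply, Algebra.linearMap_apply, Algebra.smul_def, Algebra.commutes]
  · rw [hT]; exact ⟨g i x, rfl⟩
  · rw [hT, LinearMap.comp_apply, hf, Algebra.linearMap_apply, map_one]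
  · rw [hT]; exact ⟨f x, rfl⟩

variable {R A}
variable {B : Type w} [Ring B] [Algebra R B]

/-- The inner action on a tensor product. -/
noncomputable def act (t : A ⊗[R] Aᵐᵒᵖ) : A ⊗[R] B →ₗ[R] A ⊗[R] B :=
  (AlgHom.mulLeftRight R A t).rTensor B

theorem act_add (s t : A ⊗[R] Aᵐᵒᵖ) (x : A ⊗[R] B) : act (s + t) x = act s x + act t x := by
  simp [act, LinearMap.rTensor_add]

theorem act_zero (x : A ⊗[R] B) : act (0 : A ⊗[R] Aᵐᵒᵖ) x = 0 := by simp [act]

theorem act_tmul (a : A) (b : Aᵐᵒᵖ) (x : A ⊗[R] B) :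
    act (a ⊗ₜ[R] b) x = (a ⊗ₜ[R] (1 : B)) * x * (b.unop ⊗ₜ[R] (1 : B)) := by
  induction x using TensorProduct.induction_on with
  | zero => simp [act]
  | tmul c d => simp [act]
  | add x y hx hy => rw [map_add, hx, hy, mul_add, add_mul]

theorem act_mem (I : TwoSidedIdeal (A ⊗[R] B)) (t : A ⊗[R] Aᵐᵒᵖ) {x : A ⊗[R] B} (hx : x ∈ I) :
    act t x ∈ I := by
  induction t using TensorProduct.induction_on with
  | zero => rw [act_zero]; exact I.zero_mem
  | tmul a b => rw [act_tmul]; exact I.mul_mem_right _ _ (I.mul_mem_left _ _ hx)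
  | add s t hs ht => rw [act_add]; exact I.add_mem hs ht

theorem act_of_central (t : A ⊗[R] Aᵐᵒᵖ) {x : A ⊗[R] B}
    (hx : ∀ a : A, (a ⊗ₜ[R] (1 : B)) * x = x * (a ⊗ₜ[R] (1 : B))) :
    act t x = (AlgHom.mulLeftRight R A t 1 ⊗ₜ[R] (1 : B)) * x := by
  induction t using TensorProduct.induction_on with
  | zero => rw [act_zero]; simp
  | tmul a b =>
    rw [act_tmul, mul_assoc, ← hx, ← mul_assoc, Algebra.TensorProduct.tmul_mul_tmul]
    simp
  | add s t hs ht =>
    rw [act_add, hs, ht, map_add, LinearMap.add_apply, TensorProduct.add_tmul, add_mul]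

/-- The part of `A ⊗ B` with coefficients in `Z`. -/
noncomputable def coeffs (Z : Submodule R A) : Submodule R (A ⊗[R] B) :=
  LinearMap.range (Z.subtype.rTensor B)

theorem act_coeffs {Z : Submodule R A} {t : A ⊗[R] Aᵐᵒᵖ}
    (ht : ∀ x, AlgHom.mulLeftRight R A t x ∈ Z) (x : A ⊗[R] B) :
    act t x ∈ coeffs (B := B) Z := by
  refine ⟨((AlgHom.mulLeftRight R A t).codRestrict Z ht).rTensor B x, ?_⟩
  rw [← LinearMap.rTensor_comp_apply, LinearMap.subtype_comp_codRestrict]
  rfl

variable {Z : Submodule R A}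

/-- Every two-sided ideal is generated by its coefficients in `Z`. -/
theorem Decomp.ideal (h : Decomp R A Z) (I : TwoSidedIdeal (A ⊗[R] B)) {x : A ⊗[R] B}
    (hx : x ∈ I) :
    ∃ (n : ℕ) (p : Fin n → A) (y : Fin n → A ⊗[R] B),
      (∀ i, y i ∈ I ∧ y i ∈ coeffs (B := B) Z) ∧ x = ∑ i, (p i ⊗ₜ[R] (1 : B)) * y i := by
  obtain ⟨⟨n, p, t, hsum, hmem⟩, -⟩ := h
  refine ⟨n, p, fun i => act (t i) x, fun i => ⟨act_mem I _ hx, act_coeffs (hmem i) x⟩, ?_⟩
  have key : ∀ z : A ⊗[R] B, z = ∑ i, (p i ⊗ₜ[R] (1 : B)) * act (t i) z := by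
    intro z
    induction z using TensorProduct.induction_on with
    | zero => simp [act]
    | tmul c d =>
      simp only [act, LinearMap.rTensor_tmul, Algebra.TensorProduct.tmul_mul_tmul, one_mul]
      rw [← TensorProduct.sum_tmul, hsum c]
    | add z w hz hw =>
      conv_lhs => rw [hz, hw]
      simp [act, mul_add, Finset.sum_add_distrib]
  exact key x

/-- The commutant of `A` has coefficients in `Z`. -/
theorem Decomp.commutant (h : Decomp R A Z) {x : A ⊗[R] B}
    (hx : ∀ a : A, (a ⊗ₜ[R] (1 : B)) * x = x * (a ⊗ₜ[R] (1 : B))) :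
    x ∈ coeffs (B := B) Z := by
  obtain ⟨-, t, h1, hmem⟩ := h
  have := act_coeffs (B := B) hmem x
  rwa [act_of_central t hx, h1, ← Algebra.TensorProduct.one_def, one_mul] at this

theorem mem_coeffs_scalars {x : A ⊗[R] B} (hx : x ∈ coeffs (B := B) (scalars R A)) :
    ∃ b : B, x = (1 : A) ⊗ₜ[R] b := by
  obtain ⟨z, rfl⟩ := hx
  induction z using TensorProduct.induction_on with
  | zero => exact ⟨0, by simp⟩
  | tmul c d =>
    obtain ⟨_, r, rfl⟩ := c
    refine ⟨r • d, ?_⟩
    simp [Algebra.algebraMap_eq_smul_one, TensorProduct.smul_tmul]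
  | add z w hz hw =>
    obtain ⟨b, hb⟩ := hz
    obtain ⟨c, hc⟩ := hw
    exact ⟨b + c, by rw [map_add, hb, hc, TensorProduct.tmul_add]⟩

theorem Decomp.commutant_scalars (h : Decomp R A (scalars R A)) {x : A ⊗[R] B}
    (hx : ∀ a : A, (a ⊗ₜ[R] (1 : B)) * x = x * (a ⊗ₜ[R] (1 : B))) :
    ∃ b : B, x = (1 : A) ⊗ₜ[R] b :=
  mem_coeffs_scalars (h.commutant hx)

theorem one_tmul_injective {f : A →ₗ[R] R} (hf : f 1 = 1) :
    Function.Injective fun b : B => (1 : A) ⊗ₜ[R] b := by
  intro b c e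
  have := congrArg (fun z => TensorProduct.lid R B (f.rTensor B z)) e
  simpa [hf] using this

theorem Decomp.isSimpleRing (h : Decomp R A (scalars R A)) {f : A →ₗ[R] R} (hf : f 1 = 1)
    [IsSimpleRing B] : IsSimpleRing (A ⊗[R] B) := by
  have hinj := one_tmul_injective (B := B) hf
  have : Nontrivial (A ⊗[R] B) := hinj.nontrivial
  refine IsSimpleRing.of_eq_bot_or_eq_top fun I => ?_
  let J : TwoSidedIdeal B := I.comap (Algebra.TensorProduct.includeRight (R := R) (A := A))
  rcases IsSimpleRing.simple.eq_bot_or_eq_top J with hJ | hJ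
  · refine Or.inl (le_antisymm (fun x hx => ?_) bot_le)
    obtain ⟨n, p, y, hy, rfl⟩ := h.ideal I hx
    rw [TwoSidedIdeal.mem_bot]
    refine Finset.sum_eq_zero fun i _ => ?_
    obtain ⟨b, hb⟩ := mem_coeffs_scalars (hy i).2
    have : b ∈ J := by
      rw [TwoSidedIdeal.mem_comap]
      have := (hy i).1
      rwa [hb] at this
    rw [hJ, TwoSidedIdeal.mem_bot] at this
    rw [hb, this, TensorProduct.tmul_zero, mul_zero]
  · refine Or.inr (le_antisymm le_top fun x _ => ?_)
    have : (1 : B) ∈ J := hJ ▸ TwoSidedIdeal.mem_top _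
    rw [TwoSidedIdeal.mem_comap] at this
    have h1 : (1 : A ⊗[R] B) ∈ I := by rw [Algebra.TensorProduct.one_def]; exact this
    simpa using I.mul_mem_left x 1 h1

theorem Decomp.isCentral (h : Decomp R A (scalars R A)) {f : A →ₗ[R] R} (hf : f 1 = 1)
    [Algebra.IsCentral R B] : Algebra.IsCentral R (A ⊗[R] B) := by
  refine ⟨fun x hx => ?_⟩
  rw [Subalgebra.mem_center_iff] at hx
  obtain ⟨b, rfl⟩ := h.commutant_scalars fun a => hx _
  have hb : b ∈ Subalgebra.center R B :=
    Subalgebra.mem_center_iff.2 fun c => one_tmul_injective hf (by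
      simpa using hx ((1 : A) ⊗ₜ[R] c))
  obtain ⟨r, rfl⟩ := Algebra.mem_bot.1 (Algebra.IsCentral.out hb)
  exact Algebra.mem_bot.2 ⟨r, by
    simp [Algebra.algebraMap_eq_smul_one, Algebra.TensorProduct.one_def]⟩

end General

end Groth.Agent.Azumaya
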