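import Groth.Agent.Azumaya.BaseChange

/-! Involutions of semisimple algebras. -/

set_option autoImplicit false

universe u v w

open TensorProduct MulOpposite

namespace Groth.Agent.Azumaya

section BaseChange

variable (k : Type u) [Field k] (A : Type v) [Ring A] [Algebra k A]
variable (L : Type w) [Field L] [Algebra k L]

theorem baseChange_anti {s : A →ₗ[k] A} (hsmul : ∀ x y : A, s (x * y) = s y * s x)
    (x y : L ⊗[k] A) : s.baseChange L (x * y) = s.baseChange L y * s.baseChange L x := by
  induction x using TensorProduct.induction_on with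
  | zero => simp
  | tmul l a =>
    induction y using TensorProduct.induction_on with
    | zero => simp
    | tmul m b => simp [hsmul, mul_comm l]
    | add y z hy hz => rw [mul_add, map_add, map_add, hy, hz, add_mul]
  | add x z hx hz => rw [add_mul, map_add, map_add, hx, hz, mul_add]

theorem baseChange_invol {s : A →ₗ[k] A} (hss : ∀ x : A, s (s x) = x) (x : L ⊗[k] A) :
    s.baseChange L (s.baseChange L x) = x := by
  induction x using TensorProduct.induction_on with
  | zero => simp
  | tmul l a => simp [hss]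
  | add x y hx hy => rw [map_add, map_add, hx, hy]

theorem baseChange_one {s : A →ₗ[k] A} (hs1 : s 1 = 1) : s.baseChange L (1 : L ⊗[k] A) = 1 := by
  simp [Algebra.TensorProduct.one_def, hs1]

variable {k A}

/-- An antiautomorphism maps the centre to itself. -/
theorem map_center {s : A →ₗ[k] A} (hsmul : ∀ x y : A, s (x * y) = s y * s x)
    (hss : ∀ x : A, s (s x) = x) {c : A} (hc : c ∈ Subalgebra.center k A) :
    s c ∈ Subalgebra.center k A := by
  refine Subalgebra.mem_center_iff.2 fun x => ?_
  conv_lhs => rw [← hss x, ← hsmul, ← Subalgebra.mem_center_iff.1 hc, hsmul, hss]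

/-- The restriction of an antiautomorphism to the centre. -/
def centerHom {s : A →ₗ[k] A} (hs1 : s 1 = 1) (hsmul : ∀ x y : A, s (x * y) = s y * s x)
    (hss : ∀ x : A, s (s x) = x) : Subalgebra.center k A →ₐ[k] Subalgebra.center k A where
  toFun c := ⟨s c, map_center hsmul hss c.2⟩
  map_one' := Subtype.ext hs1
  map_mul' x y := Subtype.ext <| by
    show s ((x : A) * y) = s x * s y
    rw [hsmul]
    exact (Subalgebra.mem_center_iff.1 (map_center hsmul hss y.2) (s x)).symm
  map_zero' := Subtype.ext (map_zero s)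
  map_add' x y := Subtype.ext (map_add s (x : A) y)
  commutes' r := Subtype.ext <| by
    show s (algebraMap k A r) = algebraMap k A r
    rw [Algebra.algebraMap_eq_smul_one, map_smul, hs1]

theorem centerMap_baseChange {s : A →ₗ[k] A} (hs1 : s 1 = 1)
    (hsmul : ∀ x y : A, s (x * y) = s y * s x) (hss : ∀ x : A, s (s x) = x)
    (z : L ⊗[k] Subalgebra.center k A) :
    s.baseChange L (centerMap k A L z) =
      centerMap k A L (Algebra.TensorProduct.map (AlgHom.id L L) (centerHom hs1 hsmul hss) z) := by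
  induction z using TensorProduct.induction_on with
  | zero => simp
  | tmul l c => rfl
  | add z w hz hw => rw [map_add, map_add, map_add, map_add, hz, hw]

end BaseChange

theorem comm_id₁ {R : Type*} [CommRing R] (a b c d : R) : (b - a) * (d - c) = (a - b) * (c - d) := by
  ring

theorem comm_id₂ {R : Type*} [CommRing R] {z w : R} (h : (z + w) * (z + w) - 4 * (z * w) = 0) :
    (z - w) * (z - w) = 0 := by
  linear_combination h

theorem comm_id₃ {R : Type*} [CommRing R] {U r T N W V : R} (hU : U * (r + r - T) = 1)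
    (hr : r * r - T * r + N = 0) (hs : W + V = T) (hp : W * V = N) :
    U * (W - (T - r)) * (U * (W - (T - r))) = U * (W - (T - r)) ∧
      U * (V - (T - r)) = 1 - U * (W - (T - r)) := by
  refine ⟨?_, by linear_combination U * hs + hU⟩
  linear_combination (U * (W - (T - r))) * hU + U ^ 2 * (-hr + W * hs - hp)

section SecondKind

variable {k : Type u} [Field k] {A : Type v} [Ring A] [Algebra k A] [FiniteDimensional k A]
  [IsSemisimpleRing A] {s : A →ₗ[k] A}

omit [FiniteDimensional k A] in
theorem center_mul_self_ne_zero {u : A} (hu : u ∈ Subalgebra.center k A) (h : u ≠ 0) :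
    u * u ≠ 0 := fun h0 => h (eq_zero_of_left_mul_sq_zero u fun a => by
  rw [← Subalgebra.mem_center_iff.1 hu a, mul_assoc, h0, mul_zero])

variable (hs1 : s 1 = 1) (hsmul : ∀ x y : A, s (x * y) = s y * s x) (hss : ∀ x : A, s (s x) = x)
  (hsc : ∃ c ∈ Subalgebra.center k A, s c ≠ c)
  (hfix : ∀ c ∈ Subalgebra.center k A, s c = c → c ∈ Set.range (algebraMap k A))

include hs1 hsmul hss hsc hfix

theorem finrank_center : Module.finrank k (Subalgebra.center k A) = 2 := by
  let σ := centerHom hs1 hsmul hss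
  let d : (Subalgebra.center k A) →ₗ[k] (Subalgebra.center k A) := LinearMap.id - σ.toLinearMap
  have hd : ∀ z, d z = z - σ z := fun _ => rfl
  have hσσ : ∀ z, σ (σ z) = z := fun z => Subtype.ext (hss z)
  have hfix' : ∀ z, σ z = z → ∃ r, algebraMap k (Subalgebra.center k A) r = z := fun z hz => by
    obtain ⟨r, hr⟩ := hfix z z.2 (congrArg Subtype.val hz)
    exact ⟨r, Subtype.ext hr⟩
  obtain ⟨c, hc, hcs⟩ := hsc
  have hne : Nontrivial A := ⟨⟨s c, c, hcs⟩⟩
  have hu0 : d ⟨c, hc⟩ ≠ 0 := by
    rw [hd, sub_ne_zero]; exact fun e => hcs (congrArg Subtype.val e).symm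
  have h1 : LinearMap.ker d = LinearMap.range (Algebra.linearMap k (Subalgebra.center k A)) := by
    ext z
    rw [LinearMap.mem_ker, hd, sub_eq_zero]
    exact ⟨fun e => hfix' z e.symm, fun ⟨r, e⟩ => by rw [← e]; exact (σ.commutes r).symm⟩
  have h2 : LinearMap.range d = Submodule.span k {d ⟨c, hc⟩} := by
    refine le_antisymm ?_ ?_
    · rintro w ⟨z, rfl⟩
      obtain ⟨β, hβ⟩ := hfix' (d ⟨c, hc⟩ * d z) (by
        rw [map_mul, hd, hd, map_sub, map_sub, hσσ, hσσ]; exact comm_id₁ _ _ _ _)
      obtain ⟨α, hα⟩ := hfix' (d ⟨c, hc⟩ * d ⟨c, hc⟩) (by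
        rw [map_mul, hd, map_sub, hσσ]; exact comm_id₁ _ _ _ _)
      have hα0 : α ≠ 0 := by
        rintro rfl
        rw [map_zero] at hα
        exact center_mul_self_ne_zero (d ⟨c, hc⟩).2 (fun e => hu0 (Subtype.ext e))
          (congrArg Subtype.val hα).symm
      refine Submodule.mem_span_singleton.2 ⟨α⁻¹ * β, ?_⟩
      rw [mul_smul, inv_smul_eq_iff₀ hα0, Algebra.smul_def, Algebra.smul_def, hα, hβ]
      ring
    · rw [Submodule.span_singleton_le_iff_mem]; exact LinearMap.mem_range_self d _
  have h3 := LinearMap.finrank_range_add_finrank_ker d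
  rw [h1, h2, finrank_span_singleton hu0,
    LinearMap.finrank_range_of_inj (algebraMap k (Subalgebra.center k A)).injective, Module.finrank_self] at h3
  exact h3.symm

variable (L : Type w) [Field L] [Algebra k L]

/-- An idempotent exchanged by the involution gives a splitting. -/
theorem exists_exchange (e : L ⊗[k] Subalgebra.center k A) (he : IsIdempotentElem e)
    (hse : Algebra.TensorProduct.map (AlgHom.id L L) (centerHom hs1 hsmul hss) e = 1 - e) :
    ∃ (B : Type (max w v)) (_ : Ring B) (_ : Algebra L B),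
      Algebra.IsCentral L B ∧ IsSimpleRing B ∧ FiniteDimensional L B ∧
      ∃ f : (L ⊗[k] A) ≃ₐ[L] (B × Bᵐᵒᵖ),
        ∀ x : L ⊗[k] A, f (LinearMap.baseChange L s x) = (unop (f x).2, op (f x).1) := by
  obtain ⟨c, hcZ, hcs⟩ := hsc
  have hnA : Nontrivial A := ⟨⟨s c, c, hcs⟩⟩
  have hnZ : Nontrivial (Subalgebra.center k A) := inferInstance
  let ι := centerMap k A L
  let S := s.baseChange L
  let E := ι e
  have hE : IsIdempotentElem E := he.map ι
  have hEc : ∀ x, E * x = x * E := centerMap_commute k A L e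
  have hSE : S E = 1 - E := by
    rw [centerMap_baseChange L hs1 hsmul hss, hse, map_sub, map_one]
  have hSm := baseChange_anti k A L hsmul
  have hSS := baseChange_invol k A L hss
  have hE0 : E ≠ 0 := fun h => by
    rw [h, map_zero, sub_zero] at hSE
    exact zero_ne_one hSE
  -- the span of `1` and `e`
  have hrank : Module.finrank L (L ⊗[k] (Subalgebra.center k A)) = 2 := by
    rw [Module.finrank_baseChange]
    exact finrank_center hs1 hsmul hss ⟨c, hcZ, hcs⟩ hfix
  have hli : LinearIndependent L ![(1 : L ⊗[k] (Subalgebra.center k A)), e] := by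
    rw [LinearIndependent.pair_iff]
    intro a b hab
    have h1 := congrArg ι hab
    rw [map_add, map_smul, map_smul, map_one, map_zero] at h1
    have h2 := congrArg S h1
    rw [map_add, map_smul, map_smul, baseChange_one k A L hs1, hSE, map_zero] at h2
    have h3 : (a + b) • E = 0 := by
      calc (a + b) • E = (a • (1 : L ⊗[k] A) + b • E) * E := by
            rw [add_mul, smul_mul_assoc, smul_mul_assoc, one_mul, hE.eq, add_smul]
        _ = 0 := by rw [h1, zero_mul]
    have h4 : a • E = 0 := by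
      calc a • E = (a • (1 : L ⊗[k] A) + b • (1 - E)) * E := by
            rw [add_mul, smul_mul_assoc, smul_mul_assoc, one_mul, sub_mul, one_mul, hE.eq,
              sub_self, smul_zero, add_zero]
        _ = 0 := by rw [h2, zero_mul]
    have ha : a = 0 := (smul_eq_zero.1 h4).resolve_right hE0
    rw [ha, zero_add] at h3
    exact ⟨ha, (smul_eq_zero.1 h3).resolve_right hE0⟩
  have hspan : ∀ y : L ⊗[k] (Subalgebra.center k A), ∃ a b : L, a • 1 + b • e = y := by
    intro y
    have htop := hli.span_eq_top_of_card_eq_finrank (by simp [hrank])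
    rw [Matrix.range_cons, Matrix.range_cons, Matrix.range_empty, Set.union_empty,
      Set.singleton_union] at htop
    exact Submodule.mem_span_pair.1 (htop ▸ Submodule.mem_top)
  let I : Ideal (L ⊗[k] A) := Ideal.span {1 - E}
  have hI : ∀ x, x ∈ I ↔ x * E = 0 := fun x => by
    rw [Ideal.mem_span_singleton']
    refine ⟨fun ⟨a, ha⟩ => ?_, fun h => ⟨x, by rw [mul_sub, mul_one, h, sub_zero]⟩⟩
    rw [← ha, mul_assoc, sub_mul, one_mul, hE.eq, sub_self, mul_zero]
  have : I.IsTwoSided := ⟨fun {x} y hx => by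
    rw [hI] at hx ⊢
    rw [mul_assoc, ← hEc, ← mul_assoc, hx, zero_mul]⟩
  let π : L ⊗[k] A →ₐ[L] (L ⊗[k] A) ⧸ I := Ideal.Quotient.mkₐ L I
  have hπ : ∀ x, π x = 0 ↔ x * E = 0 := fun x => Ideal.Quotient.eq_zero_iff_mem.trans (hI x)
  have hπE : π E = 1 := by
    rw [← sub_eq_zero, ← map_one π, ← map_sub, hπ, sub_mul, one_mul, hE.eq, sub_self]
  let Φ : L ⊗[k] A →ₐ[L] ((L ⊗[k] A) ⧸ I) × ((L ⊗[k] A) ⧸ I)ᵐᵒᵖ :=
    π.prod (AlgHom.ofLinearMap
      ((MulOpposite.opLinearEquiv L).toLinearMap.comp (π.toLinearMap.comp S))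
      (by
        show op (π (S 1)) = 1
        rw [baseChange_one k A L hs1, map_one, op_one])
      (fun x y => by
        show op (π (S (x * y))) = op (π (S x)) * op (π (S y))
        rw [hSm, map_mul, op_mul]))
  have hΦ : ∀ x, Φ x = (π x, op (π (S x))) := fun _ => rfl
  have hΦb : Function.Bijective Φ := by
    refine ⟨(injective_iff_map_eq_zero Φ).2 fun x hx => ?_, fun ⟨p, q⟩ => ?_⟩
    · rw [hΦ, Prod.mk_eq_zero, hπ] at hx
      have h2 : π (S x) = 0 := MulOpposite.op_injective hx.2
      rw [hπ] at h2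
      have h3 := congrArg S h2
      rw [hSm, hSE, hSS, map_zero, sub_mul, one_mul, hEc, hx.1, sub_zero] at h3
      exact h3
    · obtain ⟨a, rfl⟩ := Ideal.Quotient.mkₐ_surjective L I p
      obtain ⟨b, hb⟩ := Ideal.Quotient.mkₐ_surjective L I (unop q)
      refine ⟨a * E + S b * (1 - E), ?_⟩
      rw [hΦ, Prod.ext_iff]
      refine ⟨?_, ?_⟩
      · show π _ = π a
        simp [hπE]
      · show op (π _) = q
        rw [← op_unop q]
        congr 1
        rw [map_add, hSm, hSm, hSE, map_sub, baseChange_one k A L hs1, hSE, hSS,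
          sub_sub_cancel, map_add, map_mul, map_mul, map_sub, hπE, map_one, sub_self,
          zero_mul, zero_add, one_mul]
        exact hb
  have hscalar : ∀ y : L ⊗[k] (Subalgebra.center k A), ∃ r : L, π (ι y) = algebraMap L _ r := fun y => by
    obtain ⟨a, b, rfl⟩ := hspan y
    exact ⟨a + b, by
      rw [map_add, map_smul, map_smul, map_add, map_smul, map_smul, map_one, map_one, hπE,
        Algebra.algebraMap_eq_smul_one, add_smul]⟩
  have hnt : Nontrivial ((L ⊗[k] A) ⧸ I) := by
    refine ⟨⟨1, 0, fun h => hE0 ?_⟩⟩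
    rw [← map_one π, hπ, one_mul] at h
    exact h
  refine ⟨(L ⊗[k] A) ⧸ I, inferInstance, inferInstance, ⟨fun b hb => ?_⟩, ?_, ?_,
    AlgEquiv.ofBijective Φ hΦb, fun x => ?_⟩
  · obtain ⟨x, rfl⟩ := Ideal.Quotient.mkₐ_surjective L I b
    have hc : ∀ a : A, ((1 : L) ⊗ₜ[k] a) * (x * E) = x * E * ((1 : L) ⊗ₜ[k] a) := fun a => by
      have h := Subalgebra.mem_center_iff.1 hb (π ((1 : L) ⊗ₜ[k] a))
      rw [← map_mul, ← map_mul, ← sub_eq_zero, ← map_sub, hπ, sub_mul, sub_eq_zero] at h
      rw [← mul_assoc, h, mul_assoc, ← hEc, ← mul_assoc]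
    obtain ⟨y, hy⟩ := mem_range_centerMap k A L hc
    obtain ⟨r, hr⟩ := hscalar y
    refine Algebra.mem_bot.2 ⟨r, ?_⟩
    rw [← hr, hy, map_mul, hπE, mul_one]
  · refine IsSimpleRing.of_eq_bot_or_eq_top fun J => ?_
    by_cases h : ∀ x, π x ∈ J → π x = 0
    · refine Or.inl (le_antisymm (fun b hb => ?_) bot_le)
      obtain ⟨x, rfl⟩ := Ideal.Quotient.mkₐ_surjective L I b
      exact (TwoSidedIdeal.mem_bot _).2 (h x hb)
    · push_neg at h
      obtain ⟨x, hxJ, hx0⟩ := h
      obtain ⟨n, p, y, hy, hsum⟩ := ideal_centerMap k A L (J.comap π)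
        ((TwoSidedIdeal.mem_comap _).2 hxJ)
      obtain ⟨i, hi⟩ : ∃ i, π (ι (y i)) ≠ 0 := by
        by_contra hcon
        push_neg at hcon
        refine hx0 ?_
        rw [hsum, map_sum]
        exact Finset.sum_eq_zero fun i _ => by rw [map_mul, hcon i, mul_zero]
      obtain ⟨r, hr⟩ := hscalar (y i)
      have hr0 : r ≠ 0 := fun e => hi (by rw [hr, e, map_zero])
      have hm : algebraMap L _ r ∈ J := hr ▸ (TwoSidedIdeal.mem_comap _).1 (hy i)
      have h1 : (1 : (L ⊗[k] A) ⧸ I) ∈ J := by
        have := J.mul_mem_left (algebraMap L _ r⁻¹) _ hm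
        rwa [← map_mul, inv_mul_cancel₀ hr0, map_one] at this
      exact Or.inr (le_antisymm le_top fun b _ => by simpa using J.mul_mem_left b 1 h1)
  · exact Module.Finite.of_surjective π.toLinearMap (Ideal.Quotient.mkₐ_surjective L I)
  · show Φ (S x) = (unop (Φ x).2, op (Φ x).1)
    rw [hΦ, hΦ, hSS]
    rfl

theorem exists_idem_of_split
    (ψ : (L ⊗[k] Subalgebra.center k A) ≃ₐ[L] (L × L)) :
    ∃ e : L ⊗[k] Subalgebra.center k A, IsIdempotentElem e ∧
      Algebra.TensorProduct.map (AlgHom.id L L) (centerHom hs1 hsmul hss) e = 1 - e := by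
  obtain ⟨c, hcZ, hcs⟩ := hsc
  let σ := Algebra.TensorProduct.map (AlgHom.id L L) (centerHom hs1 hsmul hss)
  have hσσ : ∀ z, σ (σ z) = z := fun z => by
    apply centerMap_injective k A L
    rw [← centerMap_baseChange L hs1 hsmul hss, ← centerMap_baseChange L hs1 hsmul hss,
      baseChange_invol k A L hss]
  let e := ψ.symm (1, 0)
  have he : IsIdempotentElem e := (show IsIdempotentElem ((1, 0) : L × L) by
    simp [IsIdempotentElem]).map ψ.symm
  refine ⟨e, he, ?_⟩
  have hidem := (he.map σ).map ψ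
  have h1 : IsIdempotentElem (ψ (σ e)).1 := congrArg Prod.fst hidem
  have h2 : IsIdempotentElem (ψ (σ e)).2 := congrArg Prod.snd hidem
  have key : ∀ p : L × L, ψ (σ e) = p → σ e = ψ.symm p := fun p h => by
    rw [← h, AlgEquiv.symm_apply_apply]
  have hbad : ∀ r : L, σ e = algebraMap L _ r → False := fun r hr => by
    have h := congrArg ψ (hσσ e)
    rw [hr, AlgHom.commutes, AlgEquiv.commutes, AlgEquiv.apply_symm_apply] at h
    obtain ⟨h1, h2⟩ := Prod.ext_iff.1 h
    simp at h1 h2
    rw [h1] at h2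
    exact one_ne_zero h2
  rcases IsIdempotentElem.iff_eq_zero_or_one.1 h1 with a | a <;>
    rcases IsIdempotentElem.iff_eq_zero_or_one.1 h2 with b | b
  · exact (hbad 0 (by rw [key 0 (Prod.ext a b), map_zero, map_zero])).elim
  · show σ e = 1 - e
    rw [key (0, 1) (Prod.ext a b), ← map_one ψ.symm, ← map_sub]
    congr 1
    ext <;> simp
  · exfalso
    have he1 : σ e = e := key _ (Prod.ext a b)
    have hall : ∀ z, σ z = z := fun z => by
      have hz : z = (ψ z).2 • (1 : L ⊗[k] Subalgebra.center k A) + ((ψ z).1 - (ψ z).2) • e := by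
        apply ψ.injective
        rw [map_add, map_smul, map_smul, map_one, AlgEquiv.apply_symm_apply]
        ext <;> simp
      rw [hz, map_add, map_smul, map_smul, map_one, he1]
    have hz := congrArg (centerMap k A L) (hall ((1 : L) ⊗ₜ[k] ⟨c, hcZ⟩))
    change (1 : L) ⊗ₜ[k] s c = (1 : L) ⊗ₜ[k] c at hz
    exact hcs (Algebra.TensorProduct.includeRight_injective (R := k) (A := L)
      (algebraMap k L).injective hz)
  · exact (hbad 1 (by rw [key 1 (Prod.ext a b), map_one, map_one])).elim

theorem exists_idem_of_isSepClosed [IsSepClosed L] :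
    ∃ e : L ⊗[k] Subalgebra.center k A, IsIdempotentElem e ∧
      Algebra.TensorProduct.map (AlgHom.id L L) (centerHom hs1 hsmul hss) e = 1 - e := by
  obtain ⟨c, hcZ, hcs⟩ := hsc
  let τ := centerHom hs1 hsmul hss
  let z : (Subalgebra.center k A) := ⟨c, hcZ⟩
  have hττ : ∀ y, τ (τ y) = y := fun y => Subtype.ext (hss y)
  have hfix' : ∀ y, τ y = y → ∃ r, algebraMap k (Subalgebra.center k A) r = y := fun y hy => by
    obtain ⟨r, hr⟩ := hfix y y.2 (congrArg Subtype.val hy)
    exact ⟨r, Subtype.ext hr⟩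
  obtain ⟨t, ht⟩ := hfix' (z + τ z) (by rw [map_add, hττ, add_comm])
  obtain ⟨n, hn⟩ := hfix' (z * τ z) (by rw [map_mul, hττ, mul_comm])
  have hΔ : t * t - 4 * n ≠ 0 := fun h => by
    have h0 : (z - τ z) * (z - τ z) = 0 := by
      have := congrArg (algebraMap k (Subalgebra.center k A)) h
      rw [map_sub, map_mul, map_mul, map_ofNat, map_zero, ht, hn] at this
      exact comm_id₂ this
    exact center_mul_self_ne_zero (z - τ z).2
      (fun e => hcs (sub_eq_zero.1 e).symm) (congrArg Subtype.val h0)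
  let t' := algebraMap k L t
  let n' := algebraMap k L n
  have hΔ' : t' * t' - 4 * n' ≠ 0 := fun h => hΔ ((algebraMap k L).injective (by rw [map_sub, map_mul, map_mul, map_ofNat, map_zero]; exact h))
  let p : Polynomial L := Polynomial.X ^ 2 - Polynomial.C t' * Polynomial.X + Polynomial.C n'
  have hp : p.Separable := by
    refine ⟨Polynomial.C (-4 / (t' * t' - 4 * n')),
      Polynomial.C (t' * t' - 4 * n')⁻¹ * Polynomial.derivative p, ?_⟩
    have hd : Polynomial.derivative p = Polynomial.C 2 * Polynomial.X - Polynomial.C t' := by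
      simp [p]
      ring_nf
      simp [map_ofNat]
    rw [hd]
    have : Polynomial.C (t' * t' - 4 * n')⁻¹ * (Polynomial.C (t' * t' - 4 * n')) = 1 := by
      rw [← Polynomial.C_mul, inv_mul_cancel₀ hΔ', map_one]
    rw [show Polynomial.C (-4 / (t' * t' - 4 * n'))
        = Polynomial.C (t' * t' - 4 * n')⁻¹ * Polynomial.C (-4) by
      rw [← Polynomial.C_mul, div_eq_inv_mul]]
    linear_combination (norm := skip) this
    simp [p, map_ofNat]
    ring
  have hdeg : p.degree ≠ 0 := by
    have : p.degree = 2 := by simp [p]; compute_degree!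
    simp [this]
  obtain ⟨r, hr⟩ := IsSepClosed.exists_root p hdeg hp
  have hr' : r * r - t' * r + n' = 0 := by
    simpa [p, pow_two, Polynomial.IsRoot] using hr
  have hd0 : r + r - t' ≠ 0 := fun h => hΔ' (by linear_combination (r + r + t') * 0 - 4 * hr' + (r + r - t') * h)
  let w : L ⊗[k] (Subalgebra.center k A) := (1 : L) ⊗ₜ[k] z
  let σ := Algebra.TensorProduct.map (AlgHom.id L L) τ
  have hσw : σ w = (1 : L) ⊗ₜ[k] τ z := rfl
  have hal : ∀ x : k, (1 : L) ⊗ₜ[k] algebraMap k (Subalgebra.center k A) x = algebraMap L (L ⊗[k] (Subalgebra.center k A)) (algebraMap k L x) :=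
    fun x => by
      rw [Algebra.TensorProduct.algebraMap_apply, Algebra.algebraMap_self, RingHom.id_apply,
        Algebra.algebraMap_eq_smul_one (R := k) (A := L), Algebra.algebraMap_eq_smul_one,
        TensorProduct.smul_tmul]
  have hsum : w + σ w = algebraMap L _ t' := by
    rw [hσw, ← TensorProduct.tmul_add, ← ht, hal]
  have hprod : w * σ w = algebraMap L _ n' := by
    rw [hσw, Algebra.TensorProduct.tmul_mul_tmul, one_mul, ← hn, hal]
  have hu : algebraMap L (L ⊗[k] (Subalgebra.center k A)) (r + r - t')⁻¹ *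
      (algebraMap L _ r + algebraMap L _ r - algebraMap L _ t') = 1 := by
    rw [← map_add, ← map_sub, ← map_mul, inv_mul_cancel₀ hd0, map_one]
  have hrr : algebraMap L (L ⊗[k] (Subalgebra.center k A)) r * algebraMap L _ r -
      algebraMap L _ t' * algebraMap L _ r + algebraMap L _ n' = 0 := by
    rw [← map_mul, ← map_mul, ← map_sub, ← map_add, hr', map_zero]
  obtain ⟨h1, h2⟩ := comm_id₃ hu hrr hsum hprod
  refine ⟨_, h1, ?_⟩
  show σ _ = 1 - _
  rw [map_mul, map_sub, map_sub, AlgHom.commutes, AlgHom.commutes, AlgHom.commutes]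
  exact h2

end SecondKind

end Groth.Agent.Azumaya
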