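import Groth.Agent.Azumaya.Basic

/-! Isomorphisms between endomorphism algebras come from invertible modules. -/

set_option autoImplicit false

universe u

open TensorProduct

namespace Groth.Agent.Azumaya

variable {A : Type u} [CommRing A] {F G : Type u} [AddCommGroup F] [Module A F] [AddCommGroup G]
  [Module A G]

/-- Maps intertwining the two actions of `End F`. -/
def intertwiners (φ : Module.End A F ≃ₐ[A] Module.End A G) : Submodule A (F →ₗ[A] G) where
  carrier := {g | ∀ f, φ f ∘ₗ g = g ∘ₗ f}
  add_mem' {g h} hg hh f := by rw [LinearMap.comp_add, LinearMap.add_comp, hg, hh]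
  zero_mem' f := by simp
  smul_mem' c g hg f := by rw [LinearMap.comp_smul, LinearMap.smul_comp, hg]

variable (φ : Module.End A F ≃ₐ[A] Module.End A G)

/-- Rank one endomorphisms. -/
abbrev rankOne {M N : Type u} [AddCommGroup M] [Module A M] [AddCommGroup N] [Module A N]
    (b : M →ₗ[A] A) (x : N) : M →ₗ[A] N := b.smulRight x

/-- The intertwiner attached to a functional and a vector. -/
noncomputable def inter (b : F →ₗ[A] A) (y : G) : intertwiners φ :=
  ⟨{ toFun := fun w => φ (rankOne b w) y
     map_add' := fun v w => by
      rw [show rankOne b (v + w) = rankOne b v + rankOne b w by ext; simp, map_add,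
        LinearMap.add_apply]
     map_smul' := fun c w => by
      rw [show rankOne b (c • w) = c • rankOne b w by ext; simp [smul_comm c], map_smul,
        LinearMap.smul_apply, RingHom.id_apply] },
   fun f => LinearMap.ext fun w => by
     show φ f (φ (rankOne b w) y) = φ (rankOne b (f w)) y
     rw [show rankOne b (f w) = f * rankOne b w by ext; simp, map_mul]
     rfl⟩

theorem inter_apply (b : F →ₗ[A] A) (y : G) (w : F) :
    (inter φ b y).1 w = φ (rankOne b w) y := rfl

theorem inter_of_mem (b : F →ₗ[A] A) (g : intertwiners φ) (z : F) :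
    inter φ b (g.1 z) = b z • g := by
  refine Subtype.ext (LinearMap.ext fun w => ?_)
  rw [inter_apply]
  have := LinearMap.congr_fun (g.2 (rankOne b w)) z
  simp only [LinearMap.comp_apply] at this
  rw [this]
  simp [map_smul]

/-- Evaluation. -/
noncomputable def evalMap : F ⊗[A] intertwiners φ →ₗ[A] G :=
  TensorProduct.lift ((intertwiners φ).subtype.flip)

theorem evalMap_tmul (z : F) (g : intertwiners φ) : evalMap φ (z ⊗ₜ[A] g) = g.1 z := rfl

theorem inter_add (b : F →ₗ[A] A) (y y' : G) : inter φ b (y + y') = inter φ b y + inter φ b y' :=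
  Subtype.ext (LinearMap.ext fun w => map_add (φ (rankOne b w)) y y')

theorem inter_zero (b : F →ₗ[A] A) : inter φ b 0 = 0 :=
  Subtype.ext (LinearMap.ext fun w => map_zero (φ (rankOne b w)))

theorem evalMap_bijective [Module.Finite A F] [Module.Projective A F] :
    Function.Bijective (evalMap φ) := by
  obtain ⟨n, p, b, hb⟩ := exists_dualBasis A F
  let η : G → F ⊗[A] intertwiners φ := fun y => ∑ i, p i ⊗ₜ[A] inter φ (b i) y
  have h1 : ∀ y, evalMap φ (η y) = y := fun y => by
    simp only [η, map_sum, evalMap_tmul, inter_apply]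
    rw [← LinearMap.sum_apply, ← map_sum, show (∑ i, rankOne (b i) (p i)) = 1 from
      LinearMap.ext fun x => by simpa using hb x, map_one, Module.End.one_apply]
  have h2 : ∀ t, η (evalMap φ t) = t := fun t => by
    induction t using TensorProduct.induction_on with
    | zero => simp [η, inter_zero]
    | tmul z g =>
      simp only [η, evalMap_tmul, inter_of_mem]
      simp_rw [TensorProduct.tmul_smul, TensorProduct.smul_tmul']
      rw [← TensorProduct.sum_tmul, hb]
    | add s t hs ht =>
      simp only [η, map_add, inter_add, TensorProduct.tmul_add, Finset.sum_add_distrib]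
      exact congrArg₂ (· + ·) hs ht
  exact ⟨Function.LeftInverse.injective h2, Function.RightInverse.surjective h1⟩

theorem exists_trace_one [Module.Finite A F] [Module.Projective A F] [Module.FaithfullyFlat A F] :
    ∃ (n : ℕ) (α : Fin n → F →ₗ[A] A) (x : Fin n → F), ∑ i, α i (x i) = 1 := by
  obtain ⟨n, p, b, hb⟩ := exists_dualBasis A F
  let I : Ideal A := Submodule.span A (Set.range fun q : Fin n × Fin n => b q.1 (p q.2))
  have htop : I = ⊤ := by
    by_contra hne
    obtain ⟨m, hm, hle⟩ := Ideal.exists_le_maximal I hne
    refine Module.FaithfullyFlat.submodule_ne_top (R := A) (M := F) hm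
      (eq_top_iff.2 fun y _ => ?_)
    rw [← hb y]
    refine sum_mem fun i _ => Submodule.smul_mem_smul (hle ?_) Submodule.mem_top
    rw [← hb y, map_sum]
    refine sum_mem fun j _ => ?_
    rw [map_smul]
    exact I.mul_mem_left _ (Submodule.subset_span ⟨(i, j), rfl⟩)
  obtain ⟨c, hc⟩ := (Submodule.mem_span_range_iff_exists_fun A).1
    (show (1 : A) ∈ I from htop ▸ Submodule.mem_top)
  let e := Fintype.equivFin (Fin n × Fin n)
  refine ⟨_, fun i => c (e.symm i) • b (e.symm i).1, fun i => p (e.symm i).2, ?_⟩
  rw [← hc]
  exact Fintype.sum_equiv e.symm _ _ fun i => rfl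

theorem comp_scalar [Module.Finite A F] [Module.Projective A F] [Module.FaithfullyFlat A F]
    (h : Module.End A F) (hh : ∀ f : Module.End A F, f ∘ₗ h = h ∘ₗ f) :
    ∃ c : A, h = c • LinearMap.id := by
  obtain ⟨n, α, x, hαx⟩ := exists_trace_one (A := A) (F := F)
  refine ⟨∑ i, α i (h (x i)), LinearMap.ext fun z => ?_⟩
  have : ∀ i, α i (h (x i)) • z = α i (x i) • h z := fun i => by
    have := LinearMap.congr_fun (hh (rankOne (α i) z)) (x i)
    simpa using this
  rw [LinearMap.smul_apply, LinearMap.id_apply, Finset.sum_smul, Finset.sum_congr rfl fun i _ => this i,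
    ← Finset.sum_smul, hαx, one_smul]

theorem intertwiners_invertible [Module.Finite A F] [Module.Projective A F]
    [Module.FaithfullyFlat A F] [Module.Finite A G] [Module.Projective A G]
    [Module.FaithfullyFlat A G] : Module.Invertible A (intertwiners φ) := by
  classical
  have hcomp : ∀ (g : intertwiners φ) (g' : intertwiners φ.symm),
      ∃ c : A, g'.1 ∘ₗ g.1 = c • LinearMap.id := fun g g' => comp_scalar _ fun f => by
    have h := g'.2 (φ f)
    rw [AlgEquiv.symm_apply_apply] at h
    rw [← LinearMap.comp_assoc, h, LinearMap.comp_assoc, g.2, ← LinearMap.comp_assoc]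
  have hcomp' : ∀ (g : intertwiners φ) (g' : intertwiners φ.symm),
      ∃ c : A, g.1 ∘ₗ g'.1 = c • LinearMap.id := fun g g' => comp_scalar _ fun f => by
    have h := g.2 (φ.symm f)
    rw [AlgEquiv.apply_symm_apply] at h
    rw [← LinearMap.comp_assoc, h, LinearMap.comp_assoc, g'.2, ← LinearMap.comp_assoc]
  have hinj : Function.Injective fun c : A => (c • LinearMap.id : Module.End A F) := by
    intro c d hcd
    obtain ⟨n, α, x, hαx⟩ := exists_trace_one (A := A) (F := F)
    have h := fun i => congrArg (α i) (LinearMap.congr_fun hcd (x i))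
    simp only [LinearMap.smul_apply, LinearMap.id_apply, map_smul, smul_eq_mul] at h
    calc c = ∑ i, c * α i (x i) := by rw [← Finset.mul_sum, hαx, mul_one]
      _ = ∑ i, d * α i (x i) := Finset.sum_congr rfl fun i _ => h i
      _ = d := by rw [← Finset.mul_sum, hαx, mul_one]
  choose γ hγ using hcomp
  choose γ' hγ' using hcomp'
  let P : intertwiners φ →ₗ[A] intertwiners φ.symm →ₗ[A] A :=
    LinearMap.mk₂ A γ
      (fun g₁ g₂ g' => hinj (by
        simp only [add_smul, ← hγ]; rw [← LinearMap.comp_add]; rfl))
      (fun c g g' => hinj (by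
        simp only [smul_eq_mul, mul_smul, ← hγ]; rw [← LinearMap.comp_smul]; rfl))
      (fun g g₁ g₂ => hinj (by
        simp only [add_smul, ← hγ]; rw [← LinearMap.add_comp]; rfl))
      (fun c g g' => hinj (by
        simp only [smul_eq_mul, mul_smul, ← hγ]; rw [← LinearMap.smul_comp]; rfl))
  let Q : intertwiners φ ⊗[A] intertwiners φ.symm →ₗ[A] A := TensorProduct.lift P
  obtain ⟨s, hs⟩ : ∃ s, Q s = 1 := by
    obtain ⟨n, α, x, hαx⟩ := exists_trace_one (A := A) (F := F)
    obtain ⟨n', q, d, hd⟩ := exists_dualBasis A G
    refine ⟨∑ i, ∑ j, inter φ (α i) (q j) ⊗ₜ[A] inter φ.symm (d j) (x i), hinj ?_⟩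
    show (Q _) • LinearMap.id = (1 : A) • LinearMap.id
    simp only [Q, map_sum, TensorProduct.lift.tmul, P, LinearMap.mk₂_apply, Finset.sum_smul, ← hγ]
    refine LinearMap.ext fun v => ?_
    rw [one_smul, LinearMap.id_apply]
    simp only [LinearMap.sum_apply, LinearMap.comp_apply, inter_apply]
    have key : ∀ i j, φ.symm (rankOne (d j) (φ (rankOne (α i) v) (q j))) (x i) =
        α i (φ.symm (rankOne (d j) (q j)) (x i)) • v := fun i j => by
      rw [show rankOne (d j) (φ (rankOne (α i) v) (q j)) =
          φ (rankOne (α i) v) * rankOne (d j) (q j) by ext; simp, map_mul, AlgEquiv.symm_apply_apply]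
      rfl
    calc ∑ i, ∑ j, φ.symm (rankOne (d j) (φ (rankOne (α i) v) (q j))) (x i)
        = ∑ i, α i (φ.symm (∑ j, rankOne (d j) (q j)) (x i)) • v := by
          refine Finset.sum_congr rfl fun i _ => ?_
          rw [map_sum, LinearMap.sum_apply, map_sum, Finset.sum_smul]
          exact Finset.sum_congr rfl fun j _ => key i j
      _ = ∑ i, α i (x i) • v := by
          refine Finset.sum_congr rfl fun i _ => ?_
          rw [show (∑ j, rankOne (d j) (q j)) = 1 from LinearMap.ext fun x => by simpa using hd x,
            map_one]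
          rfl
      _ = v := by rw [← Finset.sum_smul, hαx, one_smul]
  have hsw : ∀ t u, Q u • t = Q t • u := by
    intro t u
    induction t using TensorProduct.induction_on with
    | zero => simp
    | tmul h h' =>
      induction u using TensorProduct.induction_on with
      | zero => simp
      | tmul g g' =>
        have e1 : γ g g' • h = γ' h g' • g := Subtype.ext <| by
          have := congrArg (fun f => h.1 ∘ₗ f) (hγ g g')
          simp only [LinearMap.comp_smul, LinearMap.comp_id] at this
          rw [← LinearMap.comp_assoc, hγ', LinearMap.smul_comp, LinearMap.id_comp] at this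
          exact this.symm
        have e2 : γ' h g' • h' = γ h h' • g' := Subtype.ext <| by
          have := congrArg (fun f => h'.1 ∘ₗ f) (hγ' h g')
          simp only [LinearMap.comp_smul, LinearMap.comp_id] at this
          rw [← LinearMap.comp_assoc, hγ, LinearMap.smul_comp, LinearMap.id_comp] at this
          exact this.symm
        simp only [Q, TensorProduct.lift.tmul, P, LinearMap.mk₂_apply]
        rw [TensorProduct.smul_tmul', e1, TensorProduct.smul_tmul, e2, TensorProduct.tmul_smul]
      | add u w hu hw => rw [map_add, add_smul, smul_add, hu, hw]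
    | add t w ht hw => rw [map_add, add_smul, smul_add, ht, hw]
  exact Module.Invertible.left (LinearEquiv.ofBijective Q
    ⟨fun t u e => by
      have h1 := hsw t s
      have h2 := hsw u s
      rw [hs, one_smul] at h1 h2
      rw [h1, h2, e],
     fun c => ⟨c • s, by rw [map_smul, hs, smul_eq_mul, mul_one]⟩⟩)

end Groth.Agent.Azumaya
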