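import Groth.Agent.Azumaya.Env

/-! Semisimple algebras: density, and semisimplicity of the enveloping action. -/

set_option autoImplicit false

universe u v w

open TensorProduct MulOpposite

namespace Groth.Agent.Azumaya

variable {A : Type v} [Ring A] [IsSemisimpleRing A]

theorem eq_zero_of_left_mul_sq_zero (z : A) (h : ∀ a : A, z * a * z = 0) : z = 0 := by
  obtain ⟨e, he, hI⟩ := IsSemisimpleRing.ideal_eq_span_idempotent (Ideal.span {z})
  obtain ⟨c, hc⟩ : ∃ c, c * z = e :=
    Ideal.mem_span_singleton'.1 (hI ▸ Ideal.mem_span_singleton_self e)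
  obtain ⟨d, hd⟩ : ∃ d, d * e = z :=
    Ideal.mem_span_singleton'.1 (hI ▸ Ideal.mem_span_singleton_self z)
  have : e = 0 := by
    rw [← he.eq, ← hc]
    rw [show c * z * (c * z) = c * (z * c * z) by noncomm_ring, h, mul_zero]
  rw [← hd, this, mul_zero]

/-- A two-sided ideal is generated by a central idempotent. -/
theorem exists_central_idempotent (I : Ideal A) [I.IsTwoSided] :
    ∃ e : A, IsIdempotentElem e ∧ (∀ a, e * a = a * e) ∧ ∀ x, x ∈ I ↔ x * e = x := by
  obtain ⟨e, he, hI⟩ := IsSemisimpleRing.ideal_eq_span_idempotent I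
  have hmem : ∀ x, x ∈ I ↔ x * e = x := fun x => by
    rw [hI, Ideal.mem_span_singleton']
    exact ⟨fun ⟨a, ha⟩ => by rw [← ha, mul_assoc, he.eq], fun h => ⟨x, h⟩⟩
  have heI : e ∈ I := (hmem e).2 he.eq
  refine ⟨e, he, fun a => ?_, hmem⟩
  have h1 : ∀ a, e * a * e = e * a := fun a => (hmem _).1 (I.mul_mem_right a heI)
  have h0 : ∀ a : A, (1 - e) * a * e = 0 := by
    intro a
    refine eq_zero_of_left_mul_sq_zero _ fun b => ?_
    calc (1 - e) * a * e * b * ((1 - e) * a * e)
        = (1 - e) * a * (e * b * e * (1 - e)) * a * e := by rw [h1]; noncomm_ring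
      _ = 0 := by rw [mul_assoc (e * b), mul_sub, mul_one, he.eq, sub_self, mul_zero, mul_zero,
                    zero_mul, zero_mul]
  have := h0 a
  rw [sub_mul, sub_mul, one_mul, h1, sub_eq_zero] at this
  exact this.symm

variable (k : Type u) [CommRing k] [Algebra k A]

/-- Endomorphisms linear over the centre are inner. -/
theorem mulLeftRight_mem [Module.Finite k A] (φ : A →ₗ[k] A)
    (hφ : ∀ c ∈ Subalgebra.center k A, ∀ x, φ (c * x) = c * φ x) :
    ∃ t, AlgHom.mulLeftRight k A t = φ := by
  letI : Module (A ⊗[k] Aᵐᵒᵖ) A := TensorProduct.Algebra.module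
  haveI : IsScalarTower k (A ⊗[k] Aᵐᵒᵖ) A := {
    smul_assoc := fun r ab a => by
      change TensorProduct.Algebra.moduleAux _ _ = _ • TensorProduct.Algebra.moduleAux _ _
      simp }
  have hsmul : ∀ (t : A ⊗[k] Aᵐᵒᵖ) (x : A), AlgHom.mulLeftRight k A t x = t • x := by
    intro t x
    induction t using TensorProduct.induction_on with
    | zero => rw [map_zero, LinearMap.zero_apply]; exact (zero_smul (A ⊗[k] Aᵐᵒᵖ) x).symm
    | tmul a b => rw [AlgHom.mulLeftRight_apply, TensorProduct.Algebra.smul_def]; simp [mul_assoc]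
    | add s t hs ht => rw [map_add, LinearMap.add_apply, hs, ht, add_smul]
  have hss : IsSemisimpleModule (A ⊗[k] Aᵐᵒᵖ) A := by
    have : ComplementedLattice (Submodule (A ⊗[k] Aᵐᵒᵖ) A) := ⟨fun N => ?_⟩
    · exact { }
    let I : Ideal A :=
      { carrier := N
        add_mem' := N.add_mem
        zero_mem' := N.zero_mem
        smul_mem' := fun a x hx => by
          have h := N.smul_mem (a ⊗ₜ[k] (1 : Aᵐᵒᵖ)) hx
          rw [← hsmul, AlgHom.mulLeftRight_apply] at h
          simpa using h }
    have : I.IsTwoSided := ⟨fun {x} b hx => by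
      have h := N.smul_mem ((1 : A) ⊗ₜ[k] op b) hx
      rw [← hsmul, AlgHom.mulLeftRight_apply] at h
      show x * b ∈ N
      simpa using h⟩
    obtain ⟨e, he, hc, hI⟩ := exists_central_idempotent I
    let M : Submodule (A ⊗[k] Aᵐᵒᵖ) A :=
      { carrier := {x | x * e = 0}
        add_mem' := fun {x y} hx hy => by simp_all [add_mul]
        zero_mem' := zero_mul e
        smul_mem' := fun t x hx => by
          have hx' : x * e = 0 := hx
          show (t • x) * e = 0
          induction t using TensorProduct.induction_on with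
          | zero => rw [← hsmul, map_zero, LinearMap.zero_apply, zero_mul]
          | tmul a b =>
            rw [← hsmul, AlgHom.mulLeftRight_apply, mul_assoc, ← hc, ← mul_assoc, mul_assoc a x e, hx']
            simp
          | add s t hs ht => rw [add_smul, add_mul, hs, ht, add_zero] }
    refine ⟨M, ⟨?_, ?_⟩⟩
    · rw [Submodule.disjoint_def]
      intro x h1 h2
      exact ((hI x).1 h1).symm.trans h2
    · rw [codisjoint_iff, eq_top_iff]
      intro x _
      refine Submodule.mem_sup.2 ⟨x * e, (hI _).2 (by rw [mul_assoc, he.eq]), x - x * e, ?_, by abel⟩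
      show (x - x * e) * e = 0
      rw [sub_mul, mul_assoc, he.eq, sub_self]
  -- the commutant is the centre
  have hcomm : ∀ (f : Module.End (A ⊗[k] Aᵐᵒᵖ) A),
      f 1 ∈ Subalgebra.center k A ∧ ∀ x, f x = f 1 * x := by
    intro f
    have hl : ∀ x, f x = x * f 1 := fun x => by
      have h := f.map_smul (x ⊗ₜ[k] (1 : Aᵐᵒᵖ)) 1
      rw [← hsmul, ← hsmul, AlgHom.mulLeftRight_apply, AlgHom.mulLeftRight_apply] at h
      simpa using h
    have hr : ∀ x, f x = f 1 * x := fun x => by
      have h := f.map_smul ((1 : A) ⊗ₜ[k] op x) 1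
      rw [← hsmul, ← hsmul, AlgHom.mulLeftRight_apply, AlgHom.mulLeftRight_apply] at h
      simpa using h
    exact ⟨Subalgebra.mem_center_iff.2 fun x => (hl x).symm.trans (hr x), hr⟩
  let F : Module.End (Module.End (A ⊗[k] Aᵐᵒᵖ) A) A :=
    { toFun := φ
      map_add' := map_add φ
      map_smul' := fun f x => by
        show φ (f x) = f (φ x)
        rw [(hcomm f).2 x, hφ _ (hcomm f).1, (hcomm f).2 (φ x)] }
  classical
  obtain ⟨s, hs⟩ := Module.Finite.fg_top (R := k) (M := A)
  obtain ⟨t, ht⟩ := jacobson_density F s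
  refine ⟨t, LinearMap.ext_on (hs : Submodule.span k (s : Set A) = ⊤) fun x hx => ?_⟩
  rw [hsmul]
  exact (ht x hx).symm

/-- The centre as a submodule. -/
abbrev centerSub (A : Type v) [Ring A] [Algebra k A] : Submodule k A :=
  Subalgebra.toSubmodule (Subalgebra.center k A)

theorem isSemisimpleRing_center (K : Type u) [Field K] (A : Type v) [Ring A] [Algebra K A]
    [FiniteDimensional K A] [IsSemisimpleRing A] :
    IsSemisimpleRing (Subalgebra.center K A) := by
  have : IsArtinianRing (Subalgebra.center K A) := IsArtinianRing.of_finite K _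
  have : IsReduced (Subalgebra.center K A) := by
    rw [isReduced_iff_pow_one_lt 2 one_lt_two]
    intro z hz
    apply Subtype.ext
    refine eq_zero_of_left_mul_sq_zero (z : A) fun a => ?_
    rw [← Subalgebra.mem_center_iff.1 z.2 a, mul_assoc]
    have : (z : A) * z = 0 := by rw [← pow_two]; exact congrArg Subtype.val hz
    rw [this, mul_zero]
  exact IsArtinianRing.isSemisimpleRing_of_isReduced _

theorem decomp_center (K : Type u) [Field K] (A : Type v) [Ring A] [Algebra K A]
    [FiniteDimensional K A] [IsSemisimpleRing A] : Decomp K A (centerSub K A) := by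
  let Z := Subalgebra.center K A
  letI : Algebra Z A :=
    RingHom.toAlgebra' Z.val.toRingHom fun c x => (Subalgebra.mem_center_iff.1 c.2 x).symm
  have := isSemisimpleRing_center K A
  have : Module.Finite Z A := Module.Finite.of_restrictScalars_finite K Z A
  have : Module.Projective Z A := Module.projective_of_isSemisimpleRing Z A
  obtain ⟨n, p, g, hg⟩ := exists_dualBasis (R := Z) A
  have key : ∀ h : A →ₗ[Z] Z, ∃ t, ∀ x, AlgHom.mulLeftRight K A t x = (h x : A) := by
    intro h
    obtain ⟨t, ht⟩ := mulLeftRight_mem K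
      (Z.val.toLinearMap.comp (h.restrictScalars K)) (fun c hc x => by
        have := h.map_smul ⟨c, hc⟩ x
        exact congrArg Subtype.val this)
    exact ⟨t, fun x => by rw [ht]; rfl⟩
  choose T hT using key
  obtain ⟨f, hf⟩ : ∃ f : A →ₗ[Z] Z, f 1 = 1 := by
    obtain ⟨q, hq⟩ := IsSemisimpleModule.extension_property
      (Algebra.linearMap Z A) Subtype.val_injective LinearMap.id
    refine ⟨q, ?_⟩
    have := LinearMap.congr_fun hq (1 : Z)
    rw [LinearMap.comp_apply, Algebra.linearMap_apply, map_one] at this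
    exact this
  refine ⟨⟨n, p, fun i => T (g i), fun x => ?_, fun i x => ?_⟩, T f, ?_, fun x => ?_⟩
  · conv_rhs => rw [← hg x]
    refine Finset.sum_congr rfl fun i _ => ?_
    rw [hT]
    exact Subalgebra.mem_center_iff.1 (g i x).2 (p i)
  · rw [hT]; exact (g i x).2
  · rw [hT, hf]; rfl
  · rw [hT]; exact (f x).2

end Groth.Agent.Azumaya
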